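import Cfsg.Agent.BC86.Suz.USub
import Cfsg.Agent.Lib.CharInd.Char
import Cfsg.Agent.BC87.Basic
import Mathlib.Algebra.Group.Hom.Instances

/-!
# Characters of the Suzuki group induced from linear characters of the point stabiliser
-/

set_option autoImplicit false

namespace Cfsg.Agent.BC86.Suz

open Finset Cfsg.Agent.Suzuki
open scoped ComplexConjugate

theorem sum_hom_apply {A : Type*} [CommGroup A] [Fintype A] [DecidableEq A] [Fintype (A →* ℂˣ)]
    (x : A) : ∑ f : A →* ℂˣ, (f x : ℂ) = if x = 1 then (Fintype.card A : ℂ) else 0 := by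
  classical
  have hall : ∀ χ : Cfsg.IrrCharacter A, (χ : A → ℂ) 1 = 1 :=
    fun χ => BC87.apply_one_eq_one_of_comm mul_comm χ
  have h := CharCore.sum_degree_mul_apply x
  simp only [hall, one_mul, Nat.card_eq_fintype_card] at h
  rw [← h]
  exact Fintype.sum_equiv (CharCore.linearEquivHom.trans (Equiv.subtypeUnivEquiv hall)) _ _
    fun f => rfl

theorem sum_hom_mul_conj {A : Type*} [CommGroup A] [Fintype A] [DecidableEq (A →* ℂˣ)]
    (f g : A →* ℂˣ) :
    ∑ x : A, (f x : ℂ) * conj (g x : ℂ) = if f = g then (Fintype.card A : ℂ) else 0 := by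
  classical
  have h := CharCore.classInner_irr ⟨_, CharCore.isIrrCharacter_hom f⟩ ⟨_, CharCore.isIrrCharacter_hom g⟩
  rw [CharCore.classInner_def, inv_mul_eq_iff_eq_mul₀ (Nat.cast_ne_zero.2 Nat.card_pos.ne')] at h
  rw [h, Nat.card_eq_fintype_card]
  by_cases e : f = g
  · subst e; simp
  · rw [if_neg e, if_neg, mul_zero]
    intro h'
    exact e (MonoidHom.ext fun x => Units.ext (congrFun (congrArg Subtype.val h') x))

theorem conj_hom_apply {A : Type*} [Group A] [Finite A] (f : A →* ℂˣ) (x : A) :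
    conj (f x : ℂ) = (f x⁻¹ : ℂ) :=
  (CharCore.irr_apply_inv ⟨_, CharCore.isIrrCharacter_hom f⟩ x).symm

variable {F : Type*} [Field F] [Fintype F] {m : ℕ} (hF : Fintype.card F = 2 ^ (2 * m + 1))
include hF

variable (hm : 1 ≤ m)
include hm

/-- The point stabiliser. -/
abbrev Bsub (F : Type*) [Field F] (m : ℕ) : Subgroup (Cfsg.Sz F m) :=
  MulAction.stabilizer (Cfsg.Sz F m) (Cfsg.suzukiPointInfinity F)

/-- The torus coordinate of an element of the point stabiliser. -/
noncomputable def kB : Bsub F m →* Fˣ :=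
  MonoidHom.mk' (fun x => ((stabEquiv hF hm).symm x).2) fun x y => by
    obtain ⟨⟨⟨a, b⟩, k⟩, rfl⟩ := (stabEquiv hF hm).surjective x
    obtain ⟨⟨⟨c, d⟩, l⟩, rfl⟩ := (stabEquiv hF hm).surjective y
    simp only [Equiv.symm_apply_apply]
    have e : stabEquiv hF hm ((a, b), k) * stabEquiv hF hm ((c, d), l) = stabEquiv hF hm
        ((a + k * c, b + (k : F) * sig m (k : F) * d + sig m a * ((k : F) * c)), k * l) := by
      refine Subtype.ext ?_
      change U hF a b * T hF k * (U hF c d * T hF l) = U hF _ _ * T hF (k * l)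
      rw [mul_assoc, ← mul_assoc (T hF k), T_mul_U, mul_assoc, ← T_mul, ← mul_assoc, U_mul]
    rw [e, Equiv.symm_apply_apply]

theorem kB_eq {x : Bsub F m} {a b : F} {k : Fˣ} (h : (x : Cfsg.Sz F m) = U hF a b * T hF k) :
    kB hF hm x = k := by
  have : x = stabEquiv hF hm ((a, b), k) := Subtype.ext h
  subst this
  change ((stabEquiv hF hm).symm (stabEquiv hF hm ((a, b), k))).2 = k
  rw [Equiv.symm_apply_apply]

theorem kB_U {x : Bsub F m} {a b : F} (h : (x : Cfsg.Sz F m) = U hF a b) : kB hF hm x = 1 :=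
  kB_eq hF hm (a := a) (b := b) (by rw [T_one, mul_one, h])

theorem kB_T {x : Bsub F m} {k : Fˣ} (h : (x : Cfsg.Sz F m) = T hF k) : kB hF hm x = k :=
  kB_eq hF hm (a := 0) (b := 0) (by rw [U_zero, one_mul, h])

variable [Fintype (Cfsg.Sz F m)]

/-- The character induced from the stabiliser by a linear character of the torus. -/
noncomputable def indB (f : Fˣ →* ℂˣ) : Cfsg.Sz F m → ℂ :=
  Cfsg.indFun (Bsub F m) (fun x => (f (kB hF hm x) : ℂ))

theorem isCharacter_indB (f : Fˣ →* ℂˣ) : Cfsg.IsCharacter (Cfsg.Sz F m) (indB hF hm f) :=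
  CharInd.isCharacter_indFun _
    (CharCore.IsIrrCharacter.isCharacter (CharCore.isIrrCharacter_hom (f.comp (kB hF hm))))

omit hF hm [Fintype F] [Fintype (Cfsg.Sz F m)] in
theorem conj_mem_B_iff (x g : Cfsg.Sz F m) :
    x⁻¹ * g * x ∈ Bsub F m ↔
      g • (x • Cfsg.suzukiPointInfinity F) = x • Cfsg.suzukiPointInfinity F := by
  rw [MulAction.mem_stabilizer_iff, mul_smul, mul_smul, inv_smul_eq_iff]

theorem natCard_B : Nat.card (Bsub F m) = Fintype.card F ^ 2 * (Fintype.card F - 1) := by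
  rw [card_stabilizer_inf hF hm, hF]

theorem indB_U (f : Fˣ →* ℂˣ) {a b : F} (h : U hF a b ≠ 1) :
    indB hF hm f (U hF a b) = 1 := by
  classical
  have hmem : U hF a b ∈ Bsub F m := U_smul_inf hF a b
  have hext : ∀ x : Cfsg.Sz F m,
      Cfsg.extendByZero (Bsub F m) (fun x => (f (kB hF hm x) : ℂ)) (x⁻¹ * U hF a b * x) =
        if x ∈ Bsub F m then 1 else 0 := by
    intro x
    split_ifs with hx
    · rw [CharInd.extendByZero_mem _ (mul_mem (mul_mem (inv_mem hx) hmem) hx)]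
      have e : (⟨_, mul_mem (mul_mem (inv_mem hx) hmem) hx⟩ : Bsub F m) =
          (⟨x, hx⟩ : Bsub F m)⁻¹ * ⟨_, hmem⟩ * ⟨x, hx⟩ := rfl
      simp only [e, map_mul, map_inv, kB_U hF hm (x := ⟨_, hmem⟩) rfl]
      simp
    · refine CharInd.extendByZero_notMem _ fun hc => hx ?_
      rw [conj_mem_B_iff] at hc
      exact (U_fix hF (smul_mem_ovoid x inf_mem_ovoid) hc).resolve_right h
  rw [indB, CharInd.indFun_apply, Finset.sum_congr rfl fun x _ => hext x, Finset.sum_boole,
    ← Fintype.card_subtype, ← Nat.card_eq_fintype_card]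
  exact inv_mul_cancel₀ (Nat.cast_ne_zero.2 (Nat.card_pos (α := Bsub F m)).ne')

theorem indB_T (f : Fˣ →* ℂˣ) {k : Fˣ} (hk : k ≠ 1) :
    indB hF hm f (T hF k) = (f k : ℂ) + (f k⁻¹ : ℂ) := by
  classical
  have hTB : ∀ l, T hF l ∈ Bsub F m := T_smul_inf hF
  have hval : ∀ x : Cfsg.Sz F m, ∀ l, x ∈ Bsub F m → ∀ h : x⁻¹ * T hF l * x ∈ Bsub F m,
      (f (kB hF hm ⟨_, h⟩) : ℂ) = f l := by
    intro x l hx h
    have e : (⟨_, h⟩ : Bsub F m) = (⟨x, hx⟩ : Bsub F m)⁻¹ * ⟨_, hTB l⟩ * ⟨x, hx⟩ := rfl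
    simp only [e, map_mul, map_inv, kB_T hF hm (x := ⟨_, hTB l⟩) rfl]
    simp [mul_comm]
  have hnot : ∀ x : Cfsg.Sz F m, x ∈ Bsub F m → W hF * x ∉ Bsub F m := by
    intro x hx h
    rw [MulAction.mem_stabilizer_iff, mul_smul, MulAction.mem_stabilizer_iff.1 hx,
      W_smul_inf] at h
    exact pt_ne_inf _ _ h
  have hext : ∀ x : Cfsg.Sz F m,
      Cfsg.extendByZero (Bsub F m) (fun x => (f (kB hF hm x) : ℂ)) (x⁻¹ * T hF k * x) =
        (if x ∈ Bsub F m then (f k : ℂ) else 0) + (if W hF * x ∈ Bsub F m then (f k⁻¹ : ℂ) else 0) := by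
    intro x
    by_cases hx : x ∈ Bsub F m
    · have hc := mul_mem (mul_mem (inv_mem hx) (hTB k)) hx
      rw [CharInd.extendByZero_mem _ hc, hval x k hx hc, if_pos hx, if_neg (hnot x hx), add_zero]
    · by_cases hw : W hF * x ∈ Bsub F m
      · have he : x⁻¹ * T hF k * x = (W hF * x)⁻¹ * T hF k⁻¹ * (W hF * x) := by
          have hW : W hF * T hF k⁻¹ * W hF = T hF k := by
            rw [W_mul_T, inv_inv, mul_assoc, W_mul_W, mul_one]
          conv_lhs => rw [← hW]
          rw [_root_.mul_inv_rev, W_inv]; group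
        have hc := mul_mem (mul_mem (inv_mem hw) (hTB k⁻¹)) hw
        rw [he, CharInd.extendByZero_mem _ hc, hval _ _ hw hc, if_neg hx, if_pos hw, zero_add]
      · rw [if_neg hx, if_neg hw, add_zero]
        refine CharInd.extendByZero_notMem _ fun hc => ?_
        rw [conj_mem_B_iff] at hc
        rcases T_fix hF (smul_mem_ovoid x inf_mem_ovoid) hc with e | e | e
        · exact hx e
        · exact hw (by rw [MulAction.mem_stabilizer_iff, mul_smul, e, W_smul_zero])
        · exact hk e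
  rw [indB, CharInd.indFun_apply, Finset.sum_congr rfl fun x _ => hext x, Finset.sum_add_distrib,
    ← Finset.sum_filter, ← Finset.sum_filter, Finset.sum_const, Finset.sum_const]
  have hc : (univ.filter fun x => W hF * x ∈ Bsub F m).card =
      (univ.filter fun x => x ∈ Bsub F m).card :=
    Finset.card_equiv (Equiv.mulLeft (W hF)) fun x => by simp
  rw [hc, ← Fintype.card_subtype, ← Nat.card_eq_fintype_card, nsmul_eq_mul, nsmul_eq_mul,
    ← mul_add, inv_mul_cancel_left₀ (Nat.cast_ne_zero.2 (Nat.card_pos (α := Bsub F m)).ne')]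

theorem indB_fpf (f : Fˣ →* ℂˣ) {g : Cfsg.Sz F m} (hg : Fpf g) : indB hF hm f g = 0 :=
  CharInd.indFun_eq_zero_of_forall_notMem _ _ fun x hc => by
    rw [conj_mem_B_iff] at hc
    exact hg _ (smul_mem_ovoid x inf_mem_ovoid) hc

theorem indB_one (f : Fˣ →* ℂˣ) :
    indB hF hm f 1 = (Fintype.card F : ℂ) ^ 2 + 1 := by
  have h8 := (q_facts hF hm).1
  have h1 := (Bsub F m).index_mul_card
  rw [natCard_B hF hm, card_Sz hF hm, ← hF] at h1
  have hi : (Bsub F m).index = Fintype.card F ^ 2 + 1 :=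
    Nat.eq_of_mul_eq_mul_right (Nat.mul_pos (pow_pos (by omega) 2) (by omega)) (h1.trans (by ring))
  rw [indB, CharInd.indFun_apply_one, map_one, map_one, hi]
  push_cast
  simp

/-- Inner products of the induced characters. -/
theorem classInner_indB [Fintype Fˣ] [DecidableEq (Fˣ →* ℂˣ)] (f g : Fˣ →* ℂˣ) :
    Cfsg.classInner (indB hF hm f) (indB hF hm g) =
      (if f = g then 1 else 0) + (if f = g⁻¹ then 1 else 0) := by
  classical
  obtain ⟨A₁, A₂, hA₁, hA₂, h1, h2, hfpf⟩ := exists_tori hF hm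
  haveI : Fintype A₁ := Fintype.ofFinite _
  haveI : Fintype A₂ := Fintype.ofFinite _
  have h8 := (q_facts hF hm).1
  have hcf : Cfsg.IsClassFunction (Cfsg.Sz F m)
      (fun x => indB hF hm f x * conj (indB hF hm g x)) := fun x y => by
    simp only [CharInd.isClassFunction_indFun _ _ x y, indB]
  have hmain := four_sum_classFun hF hm hA₁ hA₂ h1 h2 hfpf hcf
  simp only at hmain
  set q : ℂ := (Fintype.card F : ℂ) with hq
  have e1 : indB hF hm f 1 * conj (indB hF hm g 1) = (q ^ 2 + 1) ^ 2 := by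
    rw [indB_one, indB_one]; simp [q]; ring
  have eU : (∑ a : F, ∑ b : F, indB hF hm f (U hF a b) * conj (indB hF hm g (U hF a b))) -
      (q ^ 2 + 1) ^ 2 = q ^ 2 - 1 := by
    rw [← Fintype.sum_prod_type', ← Finset.add_sum_erase _ _ (mem_univ ((0 : F), (0 : F)))]
    simp only [U_zero]
    rw [e1, add_sub_cancel_left, Finset.sum_congr rfl fun p hp => show _ = (1 : ℂ) by
        have hne : U hF p.1 p.2 ≠ 1 := fun h => ne_of_mem_erase hp (by
          rw [← U_zero hF] at h
          exact Prod.ext (U_inj hF h).1 (U_inj hF h).2)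
        rw [indB_U hF hm f hne, indB_U hF hm g hne, map_one, mul_one],
      Finset.sum_const, card_erase_of_mem (mem_univ _), Finset.card_univ, Fintype.card_prod,
      nsmul_eq_mul, Nat.cast_sub (by nlinarith)]
    simp only [q]; push_cast; ring
  have eT : (∑ k : Fˣ, indB hF hm f (T hF k) * conj (indB hF hm g (T hF k))) - (q ^ 2 + 1) ^ 2 =
      2 * (q - 1) * ((if f = g then 1 else 0) + (if f = g⁻¹ then 1 else 0)) - 4 := by
    have hP : (∑ k : Fˣ, ((f k : ℂ) + f k⁻¹) * conj ((g k : ℂ) + g k⁻¹)) =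
        2 * (q - 1) * ((if f = g then 1 else 0) + (if f = g⁻¹ then 1 else 0)) := by
      have a := sum_hom_mul_conj f g
      have b := sum_hom_mul_conj f g⁻¹
      have a' := sum_hom_mul_conj f⁻¹ g⁻¹
      have b' := sum_hom_mul_conj f⁻¹ g
      have e1 : f⁻¹ = g⁻¹ ↔ f = g := ⟨fun h => MonoidHom.ext fun x =>
        inv_injective (DFunLike.congr_fun h x : (f x)⁻¹ = (g x)⁻¹), fun h => by rw [h]⟩
      have e2 : f⁻¹ = g ↔ f = g⁻¹ := ⟨fun h => MonoidHom.ext fun x =>
          inv_eq_iff_eq_inv.1 (DFunLike.congr_fun h x : (f x)⁻¹ = g x),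
        fun h => MonoidHom.ext fun x => inv_eq_iff_eq_inv.2 (DFunLike.congr_fun h x : f x = (g x)⁻¹)⟩
      simp only [e1] at a'
      simp only [e2] at b'
      have hinv : ∀ (e : Fˣ →* ℂˣ) (k : Fˣ), (e⁻¹ k : ℂ) = e k⁻¹ := fun e k => by rw [map_inv]; rfl
      simp only [hinv] at b a' b'
      have hu : (Fintype.card Fˣ : ℂ) = q - 1 := by
        rw [← Nat.card_eq_fintype_card, Nat.card_units, Nat.card_eq_fintype_card,
          Nat.cast_sub (by omega)]
        simp [q]
      rw [hu] at a b a' b'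
      simp only [map_add, add_mul, mul_add, Finset.sum_add_distrib, a, b, a', b']
      split_ifs <;> ring
    rw [← hP, ← Finset.add_sum_erase _ _ (mem_univ (1 : Fˣ)), T_one, e1, add_sub_cancel_left,
      ← Finset.add_sum_erase _ _ (mem_univ (1 : Fˣ))]
    simp only [inv_one, map_one, Units.val_one]
    rw [Finset.sum_congr rfl fun k hk => show _ = ((f k : ℂ) + f k⁻¹) * conj ((g k : ℂ) + g k⁻¹) by
      rw [indB_T hF hm f (ne_of_mem_erase hk), indB_T hF hm g (ne_of_mem_erase hk)]]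
    simp only [map_add, map_one]
    ring
  have eA : ∀ (A : Subgroup (Cfsg.Sz F m)) [Fintype A], IsTorus A →
      (∑ u : A, indB hF hm f u * conj (indB hF hm g u)) - (q ^ 2 + 1) ^ 2 = 0 := fun A _ hA => by
    rw [← Finset.add_sum_erase _ _ (mem_univ (1 : A)), OneMemClass.coe_one, e1,
      add_sub_cancel_left]
    refine Finset.sum_eq_zero fun u hu => ?_
    rw [indB_fpf hF hm f (hA.fpf u u.2 fun e => ne_of_mem_erase hu (Subtype.ext e)), zero_mul]
  rw [e1, eU, eT, eA A₁ hA₁, eA A₂ hA₂] at hmain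
  have hG : (Nat.card (Cfsg.Sz F m) : ℂ) = q ^ 2 * (q ^ 2 + 1) * (q - 1) := by
    rw [card_Sz hF hm, ← hF]; push_cast [Nat.cast_sub (show 1 ≤ Fintype.card F by omega)]; rfl
  rw [CharCore.classInner_def, inv_mul_eq_iff_eq_mul₀ (Nat.cast_ne_zero.2 Nat.card_pos.ne'), hG]
  linear_combination (1 / 4 : ℂ) * hmain

theorem hom_eq_inv_iff {f : Fˣ →* ℂˣ} [Fintype Fˣ] : f = f⁻¹ ↔ f = 1 := by
  refine ⟨fun h => MonoidHom.ext fun k => ?_, fun h => by subst h; exact MonoidHom.ext fun k => (inv_one (G := ℂˣ)).symm⟩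
  have h8 := (q_facts hF hm).1
  have h2 : f k ^ 2 = 1 := by
    have := DFunLike.congr_fun h k
    rw [MonoidHom.inv_apply] at this
    rw [pow_two]
    nth_rewrite 2 [this]
    exact mul_inv_cancel _
  have hq : f k ^ (Fintype.card F - 1) = 1 := by
    rw [← map_pow, ← Nat.card_eq_fintype_card, ← Nat.card_units, pow_card_eq_one', map_one]
  have hc : Nat.Coprime 2 (Fintype.card F - 1) := by
    rw [Nat.Prime.coprime_iff_not_dvd Nat.prime_two]
    have := Nat.even_iff.1 (q_facts hF hm).2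
    omega
  have := pow_gcd_eq_one.2 ⟨h2, hq⟩
  rwa [hc.gcd_eq_one, pow_one] at this

end Cfsg.Agent.BC86.Suz
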