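import Cfsg.Agent.BC86.Suz.Elements
import Cfsg.Agent.BC87.Basic
import Cfsg.Agent.Lib.CharCore.Linear

/-!
# Restrictions of irreducible characters to a fixed-point-free torus
-/

set_option autoImplicit false

namespace Cfsg.Agent.BC86.Suz

open Finset Cfsg.Agent.Suzuki
open scoped ComplexConjugate

variable {F : Type*} [Field F] [Fintype F] {m : ℕ} [Fintype (Cfsg.Sz F m)]
  {A : Subgroup (Cfsg.Sz F m)} [Fintype A] (hA : IsTorus A)

theorem sq_sum_sub {ι : Type*} (s : Finset ι) (f : ι → ℤ) :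
    ∑ x ∈ s, ∑ y ∈ s, (f x - f y) ^ 2 =
      2 * ((s.card : ℤ) * ∑ x ∈ s, f x ^ 2 - (∑ x ∈ s, f x) ^ 2) := by
  simp only [sub_sq, sum_add_distrib, sum_sub_distrib, ← mul_sum, ← sum_mul, sum_const,
    nsmul_eq_mul]
  ring

include hA

omit [Fintype F] [Fintype (Cfsg.Sz F m)] [Fintype A] in
theorem torus_comm (u v : A) : u * v = v * u := by
  by_cases hv : (v : Cfsg.Sz F m) = 1
  · rw [show v = 1 from Subtype.ext hv, one_mul, mul_one]
  have hu : (u : Cfsg.Sz F m) ∈ Subgroup.centralizer {(v : Cfsg.Sz F m)} := by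
    rw [hA.cent v v.2 hv]; exact u.2
  rw [Subgroup.mem_centralizer_singleton_iff] at hu
  exact Subtype.ext hu

theorem irr_torus_one (φ : Cfsg.IrrCharacter A) : (φ : A → ℂ) 1 = 1 :=
  BC87.apply_one_eq_one_of_comm (torus_comm hA) φ

theorem card_irr_torus : Fintype.card (Cfsg.IrrCharacter A) = Nat.card A := by
  have h := CharCore.sum_degree_sq (G := A)
  simp only [irr_torus_one hA, one_pow, sum_const, card_univ, nsmul_eq_mul, mul_one] at h
  exact_mod_cast h

/-- The multiplicities of the linear characters of `A` in `χ`. -/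
noncomputable def mult (χ : Cfsg.IrrCharacter (Cfsg.Sz F m)) (φ : Cfsg.IrrCharacter A) : ℤ :=
  ((CharCore.IsCharacter.exists_classInner_irr_eq_natCast
    (CharCore.isCharacter_restrict (CharCore.irr_isCharacter χ) A) φ).choose : ℤ)

omit hA in
theorem mult_spec (χ : Cfsg.IrrCharacter (Cfsg.Sz F m)) (φ : Cfsg.IrrCharacter A) :
    Cfsg.classInner (fun u : A => (χ : Cfsg.Sz F m → ℂ) u) φ = (mult χ φ : ℂ) := by
  rw [mult]
  push_cast
  exact (CharCore.IsCharacter.exists_classInner_irr_eq_natCast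
    (CharCore.isCharacter_restrict (CharCore.irr_isCharacter χ) A) φ).choose_spec

omit hA in
/-- The trivial character of `A`. -/
def trivA : Cfsg.IrrCharacter A := ⟨1, CharCore.isIrrCharacter_one⟩

theorem sum_mult (χ : Cfsg.IrrCharacter (Cfsg.Sz F m)) :
    (χ : Cfsg.Sz F m → ℂ) 1 = ((∑ φ : Cfsg.IrrCharacter A, mult χ φ : ℤ) : ℂ) := by
  have h := congrFun (CharCore.IsCharacter.eq_sum_classInner
    (CharCore.isCharacter_restrict (CharCore.irr_isCharacter χ) A)) 1
  simp only [Finset.sum_apply, Pi.smul_apply, smul_eq_mul, OneMemClass.coe_one, irr_torus_one hA,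
    mul_one, mult_spec] at h
  rw [h]; push_cast; rfl

omit hA in
theorem sum_apply_torus (χ : Cfsg.IrrCharacter (Cfsg.Sz F m)) :
    ∑ u : A, (χ : Cfsg.Sz F m → ℂ) u = (Nat.card A : ℂ) * (mult χ (trivA (A := A)) : ℂ) := by
  have h := mult_spec χ (trivA (A := A))
  rw [CharCore.classInner_def, inv_mul_eq_iff_eq_mul₀ (Nat.cast_ne_zero.2 Nat.card_pos.ne')] at h
  simpa [trivA] using h

omit hA in
theorem sum_normSq_torus (χ : Cfsg.IrrCharacter (Cfsg.Sz F m)) :
    ∑ u : A, (χ : Cfsg.Sz F m → ℂ) u * conj ((χ : Cfsg.Sz F m → ℂ) u) =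
      (Nat.card A : ℂ) * ((∑ φ : Cfsg.IrrCharacter A, mult χ φ ^ 2 : ℤ) : ℂ) := by
  have h := CharCore.classInner_eq_sum
    (CharCore.IsCharacter.isClassFunction (CharCore.isCharacter_restrict (CharCore.irr_isCharacter χ) A))
    (CharCore.IsCharacter.isClassFunction (CharCore.isCharacter_restrict (CharCore.irr_isCharacter χ) A))
  rw [CharCore.classInner_def, inv_mul_eq_iff_eq_mul₀ (Nat.cast_ne_zero.2 Nat.card_pos.ne')] at h
  rw [h]
  push_cast
  congr 1
  refine sum_congr rfl fun φ _ => ?_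
  rw [mult_spec]; simp [sq]

omit [Fintype F] [Fintype (Cfsg.Sz F m)] in
theorem mem_of_commute {g : Cfsg.Sz F m} {u : A} (hu : u ≠ 1)
    (h : g * (u : Cfsg.Sz F m) * g⁻¹ = u) : g ∈ A := by
  have hu1 : (u : Cfsg.Sz F m) ≠ 1 := fun e => hu (Subtype.ext e)
  rw [← hA.cent u u.2 hu1, Subgroup.mem_centralizer_singleton_iff]
  exact mul_inv_eq_iff_eq_mul.1 h

open scoped Classical in
theorem card_conj_torus {u : A} (hu : u ≠ 1) :
    ((univ.erase (1 : A)).filter fun v : A => IsConj (u : Cfsg.Sz F m) (v : Cfsg.Sz F m)).card = 4 := by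
  classical
  set N := Subgroup.normalizer (A : Set (Cfsg.Sz F m))
  have hu1 : (u : Cfsg.Sz F m) ≠ 1 := fun e => hu (Subtype.ext e)
  let act : N → A := fun g => ⟨(g : Cfsg.Sz F m) * u * (g : Cfsg.Sz F m)⁻¹,
    (Subgroup.mem_normalizer_iff.1 g.2 _).1 u.2⟩
  set Tc := (univ.erase (1 : A)).filter fun v : A => IsConj (u : Cfsg.Sz F m) (v : Cfsg.Sz F m)
  have hmaps : ∀ g ∈ (univ : Finset N), act g ∈ Tc := fun g _ =>
    mem_filter.2 ⟨mem_erase.2 ⟨fun e => hu1 (conj_eq_one_iff.1 (congrArg Subtype.val e)), mem_univ _⟩,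
      isConj_iff.2 ⟨g, rfl⟩⟩
  have hfib : ∀ v ∈ Tc, (univ.filter fun g : N => act g = v).card = Nat.card A := by
    intro v hv
    obtain ⟨c, hc⟩ := isConj_iff.1 (mem_filter.1 hv).2
    have hcN : c ∈ N := hA.ti c u u.2 hu1 (by rw [hc]; exact v.2)
    rw [Nat.card_eq_fintype_card, ← Finset.card_univ]
    refine (card_bij (fun (a : A) _ => (⟨c * a, mul_mem hcN (Subgroup.le_normalizer a.2)⟩ : N))
      ?_ ?_ ?_).symm
    · intro a _
      refine mem_filter.2 ⟨mem_univ _, Subtype.ext ?_⟩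
      change c * a * u * (c * a)⁻¹ = v
      rw [← hc, show c * a * u * (c * a)⁻¹ = c * (a * u * (a : Cfsg.Sz F m)⁻¹) * c⁻¹ by group]
      have := congrArg Subtype.val (torus_comm hA a u)
      simp only [Subgroup.coe_mul] at this
      rw [this, mul_inv_cancel_right]
    · intro a _ b _ e
      exact Subtype.ext (mul_left_cancel (congrArg Subtype.val e))
    · intro g hg
      have e : (g : Cfsg.Sz F m) * u * (g : Cfsg.Sz F m)⁻¹ = v :=
        congrArg Subtype.val (mem_filter.1 hg).2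
      have hmem : c⁻¹ * g ∈ A := mem_of_commute hA hu (by
        rw [show c⁻¹ * g * u * (c⁻¹ * g)⁻¹ = c⁻¹ * (g * u * (g : Cfsg.Sz F m)⁻¹) * c by group,
          e, ← hc]; group)
      exact ⟨⟨_, hmem⟩, mem_univ _, Subtype.ext (mul_inv_cancel_left c g)⟩
  have h := card_eq_sum_card_fiberwise hmaps
  rw [sum_congr rfl hfib, sum_const, smul_eq_mul, card_univ, ← Nat.card_eq_fintype_card,
    hA.card_norm] at h
  exact (Nat.eq_of_mul_eq_mul_right Nat.card_pos h).symm

/-- Column orthogonality, summed over `A`. -/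
theorem total_V :
    ∑ χ : Cfsg.IrrCharacter (Cfsg.Sz F m), ((Nat.card A : ℤ) * ∑ φ : Cfsg.IrrCharacter A, mult χ φ ^ 2 -
      (∑ φ : Cfsg.IrrCharacter A, mult χ φ) ^ 2) = ((Nat.card A : ℤ) - 1) * Nat.card A := by
  classical
  rw [← @Int.cast_inj ℂ]
  push_cast
  have h1 : ∀ χ : Cfsg.IrrCharacter (Cfsg.Sz F m),
      (Nat.card A : ℂ) * ∑ φ : Cfsg.IrrCharacter A, (mult χ φ : ℂ) ^ 2 -
        (∑ φ : Cfsg.IrrCharacter A, (mult χ φ : ℂ)) ^ 2 =
      ∑ u : A, (χ : Cfsg.Sz F m → ℂ) u * conj ((χ : Cfsg.Sz F m → ℂ) u) -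
        (χ : Cfsg.Sz F m → ℂ) 1 ^ 2 := fun χ => by
    rw [sum_normSq_torus, sum_mult hA]; push_cast; ring
  rw [sum_congr rfl fun χ _ => h1 χ, sum_sub_distrib, sum_comm, CharCore.sum_degree_sq,
    ← add_sum_erase _ _ (mem_univ (1 : A))]
  simp only [BC87.sum_norm_sq_eq_card_centralizer]
  rw [OneMemClass.coe_one, show Subgroup.centralizer ({1} : Set (Cfsg.Sz F m)) = ⊤ by
      simp [Subgroup.centralizer_eq_top_iff_subset], Subgroup.card_top, add_sub_cancel_left,
    sum_congr rfl fun u hu => show _ = (Nat.card A : ℂ) by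
      rw [hA.cent u u.2 fun e => ne_of_mem_erase hu (Subtype.ext e)],
    sum_const, card_erase_of_mem (mem_univ _), card_univ, nsmul_eq_mul,
    ← Nat.card_eq_fintype_card, Nat.cast_sub Nat.card_pos]
  simp

open scoped Classical in
theorem sum_torus_sub (χ : Cfsg.IrrCharacter (Cfsg.Sz F m)) :
    ∑ u ∈ (univ : Finset A).erase 1, (χ : Cfsg.Sz F m → ℂ) u =
      (((Nat.card A : ℤ) * mult χ (trivA (A := A)) - ∑ φ : Cfsg.IrrCharacter A, mult χ φ : ℤ) : ℂ) := by
  classical
  rw [sum_erase_eq_sub (mem_univ _), sum_apply_torus, OneMemClass.coe_one, sum_mult hA]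
  push_cast; ring

theorem total_S :
    ∑ χ : Cfsg.IrrCharacter (Cfsg.Sz F m), ((Nat.card A : ℤ) * mult χ (trivA (A := A)) -
      ∑ φ : Cfsg.IrrCharacter A, mult χ φ) ^ 2 = 4 * ((Nat.card A : ℤ) - 1) * Nat.card A := by
  classical
  rw [← @Int.cast_inj ℂ, Int.cast_sum]
  set E := (univ : Finset A).erase 1
  rw [sum_congr rfl fun χ _ => show (((((Nat.card A : ℤ) * mult χ (trivA (A := A)) -
      ∑ φ : Cfsg.IrrCharacter A, mult χ φ) ^ 2 : ℤ)) : ℂ) =
      ∑ u ∈ E, ∑ v ∈ E, (χ : Cfsg.Sz F m → ℂ) u * conj ((χ : Cfsg.Sz F m → ℂ) v) by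
    rw [← sum_mul_sum, ← map_sum, sum_torus_sub hA, map_intCast, Int.cast_pow, sq],
    sum_comm, sum_congr rfl fun u _ => sum_comm]
  simp only [CharCore.sum_apply_mul_conj]
  rw [sum_congr rfl fun u hu => show _ = (4 * Nat.card A : ℂ) by
    rw [hA.cent u u.2 fun e => ne_of_mem_erase hu (Subtype.ext e)]
    refine Eq.trans ?_ (congrArg (· * (Nat.card A : ℂ))
      (congrArg (fun k : ℕ => (k : ℂ)) (card_conj_torus hA (ne_of_mem_erase hu))))
    rw [← nsmul_eq_mul, ← sum_const, sum_filter]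
    exact sum_congr rfl fun v _ => by split_ifs <;> rfl, sum_const, card_erase_of_mem (mem_univ _), card_univ, nsmul_eq_mul,
    ← Nat.card_eq_fintype_card, Nat.cast_sub Nat.card_pos]
  push_cast; ring

/-- Conjugate linear characters occur with the same multiplicity. -/
theorem four_le_card_same (χ : Cfsg.IrrCharacter (Cfsg.Sz F m)) {φ : Cfsg.IrrCharacter A}
    (hφ : φ ≠ trivA) [DecidableEq (Cfsg.IrrCharacter A)] :
    4 ≤ ((univ.erase (trivA (A := A))).filter fun ψ => mult χ ψ = mult χ φ).card := by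
  classical
  set N := Subgroup.normalizer (A : Set (Cfsg.Sz F m))
  let cg : N → (A →* A) := fun g =>
    { toFun := fun u => ⟨(g : Cfsg.Sz F m) * u * (g : Cfsg.Sz F m)⁻¹,
        (Subgroup.mem_normalizer_iff.1 g.2 _).1 u.2⟩
      map_one' := Subtype.ext (by simp)
      map_mul' := fun u v => Subtype.ext (by simp [mul_assoc]) }
  have hbij : ∀ g, Function.Bijective (cg g) := fun g =>
    Finite.injective_iff_bijective.1 fun u v e =>
      Subtype.ext (mul_left_cancel (mul_right_cancel (congrArg Subtype.val e)))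
  let tw : N → Cfsg.IrrCharacter A := fun g =>
    ⟨_, CharCore.isIrrCharacter_comp_surjective φ.2 (cg g) (hbij g).2⟩
  have htw : ∀ g u, (tw g : A → ℂ) u = (φ : A → ℂ) (cg g u) := fun g u => rfl
  obtain ⟨f, hf⟩ := CharCore.IsCharacter.exists_hom_of_degree_one (CharCore.irr_isCharacter φ)
    (irr_torus_one hA φ)
  have hfix : ∀ g : N, tw g = φ → (g : Cfsg.Sz F m) ∈ A := by
    intro g he
    by_contra hg
    apply hφ
    have hinj : Function.Injective fun u => cg g u * u⁻¹ := by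
      intro u v e
      by_contra hne
      have hne' : u * v⁻¹ ≠ 1 := fun h => hne (mul_inv_eq_one.1 h)
      refine hg (mem_of_commute hA hne' ?_)
      change ((cg g (u * v⁻¹) : A) : Cfsg.Sz F m) = _
      congr 1
      rw [map_mul, map_inv]
      have e' : cg g u * u⁻¹ = cg g v * v⁻¹ := e
      rw [mul_inv_eq_iff_eq_mul] at e'
      rw [e', mul_assoc, mul_assoc, torus_comm hA _ (cg g v)⁻¹, ← mul_assoc, ← mul_assoc,
        torus_comm hA (cg g v) v⁻¹, mul_inv_cancel_right, torus_comm hA]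
    refine Subtype.ext (funext fun w => ?_)
    obtain ⟨u, rfl⟩ := (Finite.injective_iff_surjective.1 hinj) w
    have := congrFun (congrArg Subtype.val he) u
    rw [htw, hf] at this
    rw [hf]
    change (f (cg g u * u⁻¹) : ℂ) = 1
    rw [map_mul, map_inv, Units.ext this, mul_inv_cancel, Units.val_one]
  have hmaps : ∀ g ∈ (univ : Finset N),
      tw g ∈ (univ.erase (trivA (A := A))).filter fun ψ => mult χ ψ = mult χ φ := by
    intro g _
    refine mem_filter.2 ⟨mem_erase.2 ⟨fun e => hφ (Subtype.ext (funext fun w => ?_)), mem_univ _⟩,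
      ?_⟩
    · obtain ⟨u, rfl⟩ := (hbij g).2 w
      exact (htw g u).symm.trans (congrFun (congrArg Subtype.val e) u)
    · rw [← @Int.cast_inj ℂ, ← mult_spec, ← mult_spec]
      simp only [CharCore.classInner_def, htw]
      congr 1
      refine Fintype.sum_equiv (Equiv.ofBijective _ (hbij g)) _ _ fun u => ?_
      change _ = (χ : Cfsg.Sz F m → ℂ) ((g : Cfsg.Sz F m) * u * (g : Cfsg.Sz F m)⁻¹) * _
      rw [CharCore.irr_isClassFunction χ]
      rfl
  have hfib : ∀ ψ ∈ univ.image tw, (univ.filter fun g : N => tw g = ψ).card ≤ Nat.card A := by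
    intro ψ hψ
    obtain ⟨g₀, -, rfl⟩ := mem_image.1 hψ
    rw [Nat.card_eq_fintype_card, ← Finset.card_univ]
    have hmem : ∀ g, tw g = tw g₀ → (g : Cfsg.Sz F m) * (g₀ : Cfsg.Sz F m)⁻¹ ∈ A := by
      intro g e
      have := hfix (g * g₀⁻¹) (Subtype.ext (funext fun w => ?_))
      · exact this
      · obtain ⟨u, rfl⟩ := (hbij g₀).2 w
        rw [htw, show cg (g * g₀⁻¹) (cg g₀ u) = cg g u from Subtype.ext (by
          change ((g * g₀⁻¹ : N) : Cfsg.Sz F m) * (g₀ * u * (g₀ : Cfsg.Sz F m)⁻¹) *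
            ((g * g₀⁻¹ : N) : Cfsg.Sz F m)⁻¹ = g * u * (g : Cfsg.Sz F m)⁻¹
          rw [Subgroup.coe_mul, Subgroup.coe_inv]; group)]
        exact (htw g u).symm.trans ((congrFun (congrArg Subtype.val e) u).trans (htw g₀ u))
    refine card_le_card_of_injOn (fun g => if h : tw g = tw g₀ then ⟨_, hmem g h⟩ else 1)
      (fun g _ => mem_univ _) ?_
    intro a ha b hb e
    rw [coe_filter, Set.mem_ofPred_eq] at ha hb
    simp only [dif_pos ha.2, dif_pos hb.2] at e
    exact Subtype.ext (mul_right_cancel (congrArg Subtype.val e))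
  have h := card_le_mul_card_image (univ : Finset N) (Nat.card A) hfib
  rw [card_univ, ← Nat.card_eq_fintype_card, hA.card_norm, mul_comm] at h
  calc 4 ≤ (univ.image tw).card := Nat.le_of_mul_le_mul_left h Nat.card_pos
    _ ≤ _ := card_le_card fun ψ hψ => by
      obtain ⟨g, -, rfl⟩ := mem_image.1 hψ
      exact hmaps g (mem_univ _)

/-- Among the rows with a non-zero sum over `A#`, at most `(|A| - 1) / 4` beyond four. -/
theorem four_card_rows_le (hn5 : 5 ≤ Nat.card A)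
    (s : Finset (Cfsg.IrrCharacter (Cfsg.Sz F m)))
    (hs : ∀ χ ∈ s, (Nat.card A : ℤ) * mult χ (trivA (A := A)) ≠ ∑ φ : Cfsg.IrrCharacter A, mult χ φ) :
    (Nat.card A = 5 ∧ s.card ≤ 5) ∨ 4 * s.card ≤ Nat.card A + 15 := by
  classical
  set n : ℤ := (Nat.card A : ℤ) with hn
  set P := (univ : Finset (Cfsg.IrrCharacter A)).erase trivA with hP
  have hPcard : (P.card : ℤ) = n - 1 := by
    rw [hP, card_erase_of_mem (mem_univ _), card_univ, card_irr_torus hA,
      Nat.cast_sub Nat.card_pos]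
    simp [n]
  set D : Cfsg.IrrCharacter (Cfsg.Sz F m) → ℤ := fun χ =>
    (n - 1) * ∑ φ ∈ P, mult χ φ ^ 2 - (∑ φ ∈ P, mult χ φ) ^ 2
  set S : Cfsg.IrrCharacter (Cfsg.Sz F m) → ℤ := fun χ =>
    n * mult χ (trivA (A := A)) - ∑ φ : Cfsg.IrrCharacter A, mult χ φ
  have hD2 : ∀ χ, 2 * D χ = ∑ x ∈ P, ∑ y ∈ P, (mult χ x - mult χ y) ^ 2 := fun χ => by
    rw [sq_sum_sub, hPcard]
  have hD0 : ∀ χ, 0 ≤ D χ := fun χ => by
    have := hD2 χ
    have : 0 ≤ ∑ x ∈ P, ∑ y ∈ P, (mult χ x - mult χ y) ^ 2 :=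
      sum_nonneg fun x _ => sum_nonneg fun y _ => sq_nonneg _
    linarith
  have hDbig : ∀ χ, D χ ≠ 0 → 4 * (n - 5) ≤ D χ := by
    intro χ hne
    obtain ⟨x₀, hx₀, y₀, hy₀, hxy⟩ : ∃ x ∈ P, ∃ y ∈ P, mult χ x ≠ mult χ y := by
      by_contra h
      push Not at h
      refine hne ?_
      have h2 := hD2 χ
      rw [sum_eq_zero fun x hx => sum_eq_zero fun y hy => by rw [h x hx y hy, sub_self]; ring] at h2
      linarith
    set P₁ := P.filter fun x => mult χ x = mult χ x₀
    set P₂ := P.filter fun x => ¬ mult χ x = mult χ x₀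
    have h1 : 4 ≤ P₁.card := four_le_card_same hA χ (ne_of_mem_erase hx₀)
    have h2 : 4 ≤ P₂.card := by
      refine (four_le_card_same hA χ (ne_of_mem_erase hy₀)).trans (card_le_card fun z hz => ?_)
      obtain ⟨hz1, hz2⟩ := mem_filter.1 hz
      exact mem_filter.2 ⟨hz1, by rw [hz2]; exact fun e => hxy e.symm⟩
    have h3 : P₁.card + P₂.card = P.card := card_filter_add_card_filter_not _
    have hb : 2 * ((P₁.card : ℤ) * P₂.card) ≤ 2 * D χ := by
      rw [hD2 χ, ← sum_filter_add_sum_filter_not P (fun x => mult χ x = mult χ x₀)]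
      have hge : ∀ (s t : Finset (Cfsg.IrrCharacter A)), t ⊆ P →
          (∀ x ∈ s, ∀ y ∈ t, mult χ x ≠ mult χ y) →
          (s.card : ℤ) * t.card ≤ ∑ x ∈ s, ∑ y ∈ P, (mult χ x - mult χ y) ^ 2 := by
        intro s t ht hst
        calc (s.card : ℤ) * t.card = ∑ x ∈ s, ∑ y ∈ t, (1 : ℤ) := by simp
          _ ≤ ∑ x ∈ s, ∑ y ∈ t, (mult χ x - mult χ y) ^ 2 := sum_le_sum fun x hx =>
            sum_le_sum fun y hy => by
              have : (mult χ x - mult χ y) ^ 2 ≠ 0 := pow_ne_zero 2 (sub_ne_zero.2 (hst x hx y hy))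
              have := sq_nonneg (mult χ x - mult χ y)
              omega
          _ ≤ _ := sum_le_sum fun x _ => sum_le_sum_of_subset_of_nonneg ht fun y _ _ => sq_nonneg _
      have e1 := hge P₁ P₂ (filter_subset _ _) (fun x hx y hy e => (mem_filter.1 hy).2
        (e.symm.trans (mem_filter.1 hx).2))
      have e2 := hge P₂ P₁ (filter_subset _ _) (fun x hx y hy e => (mem_filter.1 hx).2
        (e.trans (mem_filter.1 hy).2))
      rw [mul_comm (P₂.card : ℤ)] at e2
      change 2 * ((P₁.card : ℤ) * P₂.card) ≤ (∑ x ∈ P₁, _) + ∑ x ∈ P₂, _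
      linarith
    have h3' : (P₁.card : ℤ) + P₂.card = n - 1 := by rw [← hPcard]; exact_mod_cast h3
    nlinarith [mul_nonneg (sub_nonneg.2 (show (4 : ℤ) ≤ P₁.card by exact_mod_cast h1))
      (sub_nonneg.2 (show (4 : ℤ) ≤ P₂.card by exact_mod_cast h2))]
  have hsplit : ∀ χ, n * D χ =
      (n - 1) * (n * ∑ φ : Cfsg.IrrCharacter A, mult χ φ ^ 2 -
        (∑ φ : Cfsg.IrrCharacter A, mult χ φ) ^ 2) - S χ ^ 2 := fun χ => by
    simp only [D, S, ← add_sum_erase _ _ (mem_univ (trivA (A := A))), ← hP]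
    ring
  have hDtot : ∑ χ, D χ = (n - 1) * (n - 5) := by
    have hn0 : n ≠ 0 := by omega
    apply mul_left_cancel₀ hn0
    rw [mul_sum, sum_congr rfl fun χ _ => hsplit χ, sum_sub_distrib, ← mul_sum, total_V hA,
      total_S hA]
    ring
  have hconst : ∀ χ ∈ s.filter (fun χ => D χ = 0), (n - 1) ^ 2 ≤ S χ ^ 2 := by
    intro χ hχ
    obtain ⟨hχs, h0⟩ := mem_filter.1 hχ
    have h2 := hD2 χ
    rw [h0, mul_zero, eq_comm,
      sum_eq_zero_iff_of_nonneg fun x _ => sum_nonneg fun y _ => sq_nonneg _] at h2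
    obtain ⟨x₀, hx₀⟩ : P.Nonempty := card_pos.1 (by omega)
    have hsame : ∀ y ∈ P, mult χ y = mult χ x₀ := fun y hy => by
      have := (sum_eq_zero_iff_of_nonneg fun y _ => sq_nonneg _).1 (h2 x₀ hx₀) y hy
      exact (sub_eq_zero.1 (pow_eq_zero_iff two_ne_zero |>.1 this)).symm
    have hS : S χ = (n - 1) * (mult χ (trivA (A := A)) - mult χ x₀) := by
      simp only [S]
      rw [← add_sum_erase _ _ (mem_univ (trivA (A := A))), sum_congr rfl hsame, sum_const,
        nsmul_eq_mul, hPcard]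
      ring
    have hne : mult χ (trivA (A := A)) - mult χ x₀ ≠ 0 := fun h =>
      hs χ hχs (sub_eq_zero.1 (show S χ = 0 by rw [hS, h, mul_zero]))
    rw [hS, mul_pow]
    refine le_mul_of_one_le_right (sq_nonneg _) ?_
    have := sq_nonneg (mult χ (trivA (A := A)) - mult χ x₀)
    have := pow_ne_zero 2 hne
    omega
  set N₁ := s.filter fun χ => ¬ D χ = 0
  set C₀ := s.filter fun χ => D χ = 0
  have hC : (C₀.card : ℤ) * (n - 1) ≤ 4 * n := by
    have h : (C₀.card : ℤ) * (n - 1) ^ 2 ≤ 4 * (n - 1) * n := by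
      rw [← total_S hA, ← nsmul_eq_mul, ← sum_const]
      exact (sum_le_sum hconst).trans
        (sum_le_sum_of_subset_of_nonneg (subset_univ _) fun _ _ _ => sq_nonneg _)
    exact le_of_mul_le_mul_right (by linarith) (show (0 : ℤ) < n - 1 by omega)
  have hN : (N₁.card : ℤ) * (4 * (n - 5)) ≤ (n - 1) * (n - 5) := by
    rw [← hDtot, ← nsmul_eq_mul, ← sum_const]
    exact (sum_le_sum fun χ hχ => hDbig χ (mem_filter.1 hχ).2).trans
      (sum_le_sum_of_subset_of_nonneg (subset_univ _) fun χ _ _ => hD0 χ)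
  have hcard : C₀.card + N₁.card = s.card := card_filter_add_card_filter_not _
  rcases eq_or_lt_of_le hn5 with h5 | h5
  · left
    refine ⟨h5.symm, ?_⟩
    have hn' : n = 5 := by simp only [n]; omega
    have hN0 : N₁ = ∅ := eq_empty_of_forall_notMem fun χ hχ => (mem_filter.1 hχ).2
      ((sum_eq_zero_iff_of_nonneg fun χ _ => hD0 χ).1 (hDtot.trans (by rw [hn']; ring)) χ (mem_univ _))
    rw [hN0, card_empty, add_zero] at hcard
    rw [hn'] at hC
    omega
  · right
    have hn6 : (6 : ℤ) ≤ n := by simp only [n]; omega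
    have h4 : (C₀.card : ℤ) ≤ 4 := by nlinarith
    have hN' : 4 * (N₁.card : ℤ) ≤ n - 1 :=
      le_of_mul_le_mul_right (by linarith) (show (0 : ℤ) < n - 5 by omega)
    simp only [n] at hN'
    omega

end Cfsg.Agent.BC86.Suz
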