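import Cfsg.Agent.BC86.Suz.Split
import Cfsg.Agent.BC86.Suz.TorusRows

/-!
# The degrees of the irreducible characters of the Suzuki group
-/

set_option autoImplicit false

namespace Cfsg.Agent.BC86.Suz

open Finset Cfsg.Agent.Suzuki
open scoped ComplexConjugate

theorem residue_bound {ι : Type*} (s : Finset ι) (f : ι → ℤ) (n k r : ℤ) (hn : (s.card : ℤ) = n)
    (hsum : ∑ x ∈ s, f x = n * k + r) :
    r * (n - r) ≤ n * ∑ x ∈ s, f x ^ 2 - (∑ x ∈ s, f x) ^ 2 := by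
  have h : 0 ≤ ∑ x ∈ s, (f x - k) * (f x - k - 1) := sum_nonneg fun x _ => by
    rcases le_or_gt (f x - k) 0 with h | h
    · exact mul_nonneg_of_nonpos_of_nonpos h (by linarith)
    · exact mul_nonneg (by linarith) (by linarith)
  have he : ∑ x ∈ s, (f x - k) * (f x - k - 1) =
      ∑ x ∈ s, f x ^ 2 - (2 * k + 1) * ∑ x ∈ s, f x + n * (k * (k + 1)) := by
    rw [← hn, ← nsmul_eq_mul, ← sum_const, mul_sum, ← sum_sub_distrib, ← sum_add_distrib]
    exact sum_congr rfl fun x _ => by ring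
  rw [he, hsum] at h
  rw [hsum]
  have hn0 : 0 ≤ n := hn ▸ Int.natCast_nonneg _
  nlinarith [mul_nonneg hn0 h]

variable {F : Type*} [Field F] [Fintype F] {m : ℕ} (hF : Fintype.card F = 2 ^ (2 * m + 1))
  (hm : 1 ≤ m) [Fintype (Cfsg.Sz F m)]
include hF hm

theorem charDegree_of_known {χ : Cfsg.IrrCharacter (Cfsg.Sz F m)} (hχ : IsKnown hF hm χ) :
    Cfsg.charDegree (χ : Cfsg.Sz F m → ℂ) = 1 ∨
      Cfsg.charDegree (χ : Cfsg.Sz F m → ℂ) = Fintype.card F ^ 2 ∨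
      Cfsg.charDegree (χ : Cfsg.Sz F m → ℂ) = Fintype.card F ^ 2 + 1 := by
  rcases hχ with e | e | ⟨f, -, e⟩
  · exact Or.inl (BC87.charDegree_eq (by rw [e]; simp))
  · exact Or.inr (Or.inl (BC87.charDegree_eq (by rw [e, (steinberg_values hF hm).1]; push_cast; rfl)))
  · exact Or.inr (Or.inr (BC87.charDegree_eq (by rw [e, indB_one]; push_cast; rfl)))

theorem charDegree_of_data {χ : Cfsg.IrrCharacter (Cfsg.Sz F m)} {a X : ℕ}
    (h : Data hF hm χ a X) :
    Cfsg.charDegree (χ : Cfsg.Sz F m → ℂ) = (Fintype.card F - 1) * X :=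
  BC87.charDegree_eq (by rw [h.deg, Nat.cast_mul, Nat.cast_sub Fintype.card_pos, Nat.cast_one])

/-- The degree of a complex pair is `2 ^ m * (q - 1)`, by the norm. -/
theorem pair_X {w : Cfsg.IrrCharacter (Cfsg.Sz F m)} {X : ℕ} (hw : Data hF hm w 0 X)
    (hu : 2 * ((w : Cfsg.Sz F m → ℂ) (U hF 1 0) * conj ((w : Cfsg.Sz F m → ℂ) (U hF 1 0))) =
      (Fintype.card F : ℂ))
    {A₁ A₂ : Subgroup (Cfsg.Sz F m)} (hA₁ : IsTorus A₁) (hA₂ : IsTorus A₂)
    (h1 : Nat.card A₁ = Fintype.card F + 2 ^ (m + 1) + 1)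
    (h2 : Nat.card A₂ = Fintype.card F - 2 ^ (m + 1) + 1)
    (hfpf : ∀ g : Cfsg.Sz F m, Fpf g ↔ g ∈ cls A₁ ∪ cls A₂) : X = 2 ^ m := by
  classical
  haveI : Fintype A₁ := Fintype.ofFinite _
  haveI : Fintype A₂ := Fintype.ofFinite _
  haveI : Fintype Fˣ := Fintype.ofFinite _
  obtain ⟨h8, -⟩ := q_facts hF hm
  obtain ⟨b, hb⟩ : (2 ^ m : ℕ) ∣ X := by
    have := hw.dvd
    rw [Nat.cast_zero, sub_zero, Int.natCast_dvd_natCast] at this
    exact this
  have hbpos : 1 ≤ b := by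
    rcases Nat.eq_zero_or_pos b with h | h
    · exfalso
      apply CharCore.irr_apply_one_ne_zero w
      rw [hw.deg, hb, h, mul_zero, Nat.cast_zero, mul_zero]
    · exact h
  suffices b ≤ 1 by rw [hb, show b = 1 by omega, mul_one]
  have hle : 2 ^ (m + 1) ≤ Fintype.card F := by
    rw [hF]; exact Nat.pow_le_pow_right (by norm_num) (by omega)
  set Q : ℤ := (Fintype.card F : ℤ) with hQ
  set M : ℤ := (2 : ℤ) ^ m with hMdef
  set n₁ : ℤ := (Nat.card A₁ : ℤ) with hn₁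
  set n₂ : ℤ := (Nat.card A₂ : ℤ) with hn₂
  have hQM : Q = 2 * M ^ 2 := by
    simp only [Q, M, hF]; push_cast; ring
  have e₁ : n₁ = Q + 2 * M + 1 := by simp only [n₁, Q, M, h1]; push_cast; ring
  have e₂ : n₂ = Q - 2 * M + 1 := by
    simp only [n₂, Q, M, h2]; push_cast [Nat.cast_sub hle]; ring
  set V : ∀ (A : Subgroup (Cfsg.Sz F m)) [Fintype A], ℤ := fun A _ =>
    (Nat.card A : ℤ) * ∑ φ : Cfsg.IrrCharacter A, mult w φ ^ 2 -
      (∑ φ : Cfsg.IrrCharacter A, mult w φ) ^ 2 with hV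
  have hd : ∀ (A : Subgroup (Cfsg.Sz F m)) [Fintype A], IsTorus A →
      ∑ φ : Cfsg.IrrCharacter A, mult w φ = (Q - 1) * (M * b) := fun A _ hA => by
    have := sum_mult hA w
    rw [hw.deg, hb] at this
    rw [← @Int.cast_inj ℂ, ← this]
    simp only [Q, M]; push_cast; ring
  have hVA : ∀ (A : Subgroup (Cfsg.Sz F m)) [Fintype A], IsTorus A →
      (∑ u : A, (w : Cfsg.Sz F m → ℂ) u * conj ((w : Cfsg.Sz F m → ℂ) u)) -
        (w : Cfsg.Sz F m → ℂ) 1 * conj ((w : Cfsg.Sz F m → ℂ) 1) = (V A : ℂ) := fun A _ hA => by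
    rw [sum_normSq_torus, sum_mult hA, map_intCast]
    simp only [hV]; push_cast; ring
  have hV₁ : (b : ℤ) * (n₁ - b) ≤ V A₁ :=
    residue_bound univ (mult w) n₁ ((M - 1) * b) b
      (by rw [card_univ, card_irr_torus hA₁]) (by rw [hd A₁ hA₁, e₁, hQM]; ring)
  have hV₂ : (b : ℤ) * (n₂ - b) ≤ V A₂ := by
    have := residue_bound univ (mult (A := A₂) w) n₂ ((M + 1) * b - 1) (n₂ - b)
      (by rw [card_univ, card_irr_torus hA₂]) (by rw [hd A₂ hA₂, e₂, hQM]; ring)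
    simp only [hV] at this ⊢
    linarith
  -- the norm
  set f : Cfsg.Sz F m → ℂ := fun g => (w : Cfsg.Sz F m → ℂ) g * conj ((w : Cfsg.Sz F m → ℂ) g)
  have hf : Cfsg.IsClassFunction (Cfsg.Sz F m) f := fun g h => by
    simp only [f, CharCore.irr_isClassFunction w g h]
  have hmain := four_sum_classFun hF hm hA₁ hA₂ h1 h2 hfpf hf
  simp only at hmain
  have hsum : ∑ g, f g = (Nat.card (Cfsg.Sz F m) : ℂ) := by
    have h := CharCore.classInner_irr_self w
    rwa [CharCore.classInner_def, inv_mul_eq_one₀ (Nat.cast_ne_zero.2 Nat.card_pos.ne'), eq_comm] at h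
  have hf1 : f 1 = (((Q - 1) * (M * b)) ^ 2 : ℤ) := by
    simp only [f, hw.deg, hb, Q, M]; push_cast; simp [Complex.conj_ofNat]; ring
  have hU : (∑ a : F, ∑ c : F, f (U hF a c)) - f 1 =
      (((Q - 1) * (M * b) ^ 2 + (Q - 1) * Q * M ^ 2 : ℤ) : ℂ) := by
    rw [← add_sum_erase _ _ (mem_univ (0 : F)), ← add_sum_erase _ _ (mem_univ (0 : F)), U_zero,
      sum_congr rfl (s₂ := univ.erase (0 : F)) fun c hc => show f (U hF 0 c) = ((M * b : ℤ) : ℂ) ^ 2 by
        simp only [f]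
        rw [apply_U_zero hF hm (ne_of_mem_erase hc), hw.invol, hb]
        simp only [M]; push_cast; simp [Complex.conj_ofNat]; ring,
      sum_congr rfl (s₂ := univ.erase (0 : F)) fun a ha => show
        (∑ c : F, f (U hF a c)) = ((Q * M ^ 2 : ℤ) : ℂ) by
        rw [sum_congr rfl fun c _ => show f (U hF a c) = ((M ^ 2 : ℤ) : ℂ) by
          simp only [f]
          rw [(re_apply_U hF hm (χ := w) (ne_of_mem_erase ha)).2]
          have hq : (Fintype.card F : ℂ) = 2 * ((M : ℂ)) ^ 2 := by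
            have := congrArg (fun x : ℤ => (x : ℂ)) hQM
            simp only [Q] at this; push_cast at this; exact this
          rw [hq] at hu
          push_cast
          linear_combination (1 / 2 : ℂ) * hu, sum_const, card_univ, nsmul_eq_mul]
        simp only [Q]; push_cast; ring]
    simp only [sum_const, card_erase_of_mem (mem_univ _), card_univ, nsmul_eq_mul]
    rw [Nat.cast_sub (by omega)]
    simp only [Q]; push_cast; ring
  have hT : (∑ k : Fˣ, f (T hF k)) - f 1 = 0 := by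
    rw [← add_sum_erase _ _ (mem_univ (1 : Fˣ)), T_one, add_sub_cancel_left]
    exact sum_eq_zero fun k hk => by
      simp only [f, apply_T_eq_zero hF hm hw.not_known (ne_of_mem_erase hk), zero_mul]
  rw [hsum, hU, hT, hf1] at hmain
  rw [show (∑ u : A₁, f u) - (((((Q - 1) * (M * b)) ^ 2 : ℤ)) : ℂ) = (V A₁ : ℂ) by
      rw [← hf1]; exact hVA A₁ hA₁,
    show (∑ u : A₂, f u) - (((((Q - 1) * (M * b)) ^ 2 : ℤ)) : ℂ) = (V A₂ : ℂ) by
      rw [← hf1]; exact hVA A₂ hA₂] at hmain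
  have hG : (Nat.card (Cfsg.Sz F m) : ℤ) = Q ^ 2 * (Q ^ 2 + 1) * (Q - 1) := by
    rw [card_Sz hF hm, ← hF]
    push_cast [Nat.cast_sub (show 1 ≤ Fintype.card F by omega)]; rfl
  have hmainZ : 4 * (Nat.card (Cfsg.Sz F m) : ℤ) = 4 * ((Q - 1) * (M * b)) ^ 2 +
      4 * (Q ^ 2 + 1) * ((Q - 1) * (M * b) ^ 2 + (Q - 1) * Q * M ^ 2) +
      Q ^ 2 * (Q - 1) * n₂ * V A₁ + Q ^ 2 * (Q - 1) * n₁ * V A₂ := by
    rw [← @Int.cast_inj ℂ]
    simp only [Q, n₁, n₂]
    push_cast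
    push_cast at hmain
    simp only [Q] at hmain
    push_cast at hmain
    linear_combination hmain
  rw [hG] at hmainZ
  have hpos : 0 ≤ Q ^ 2 * (Q - 1) := mul_nonneg (sq_nonneg _) (by simp only [Q]; omega)
  have hn₁0 : 0 ≤ n₁ := Int.natCast_nonneg _
  have hn₂0 : 0 ≤ n₂ := Int.natCast_nonneg _
  have hkey : 0 ≤ Q ^ 2 * (Q - 1) * (Q ^ 2 + 1) * (2 - 2 * (b : ℤ)) := by
    have a1 := mul_le_mul_of_nonneg_left hV₁ (mul_nonneg hpos hn₂0)
    have a2 := mul_le_mul_of_nonneg_left hV₂ (mul_nonneg hpos hn₁0)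
    rw [e₁, e₂] at hmainZ a1 a2
    rw [hQM] at hmainZ a1 a2 ⊢
    linear_combination a1 + a2 - hmainZ
  have hq2 : 0 < Q ^ 2 * (Q - 1) * (Q ^ 2 + 1) := by
    have : (2 : ℤ) ≤ Q := by simp only [Q]; omega
    have : 0 < Q - 1 := by linarith
    positivity
  have := nonneg_of_mul_nonneg_right hkey hq2
  omega

theorem exists_R_dvd {A : Subgroup (Cfsg.Sz F m)} [Fintype A] (hA : IsTorus A)
    (h5 : 5 ≤ Nat.card A) (hlt : Nat.card A < 2 * Fintype.card F)
    (hrel : ∃ k : ℤ, (((Fintype.card F : ℤ) - 1) * 2 ^ m) ^ 2 = (Nat.card A : ℤ) * k + 1)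
    (R : Finset (Cfsg.IrrCharacter (Cfsg.Sz F m))) {w₁ w₂ : Cfsg.IrrCharacter (Cfsg.Sz F m)}
    (hRcard : 2 * R.card = Fintype.card F) (h1R : w₁ ∉ R) (h2R : w₂ ∉ R) (hne : w₁ ≠ w₂)
    (hRnk : ∀ χ ∈ R, ¬ IsKnown hF hm χ)
    (hw₁ : Data hF hm w₁ 0 (2 ^ m)) (hw₂ : Data hF hm w₂ 0 (2 ^ m)) :
    ∃ χ ∈ R, ∃ k : ℤ, (χ : Cfsg.Sz F m → ℂ) 1 = ((Nat.card A : ℤ) * k : ℤ) := by
  classical
  obtain ⟨h8, -⟩ := q_facts hF hm
  by_contra hcon
  push Not at hcon
  set n : ℤ := (Nat.card A : ℤ) with hn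
  set one : Cfsg.IrrCharacter (Cfsg.Sz F m) := ⟨1, CharCore.isIrrCharacter_one⟩
  set st : Cfsg.IrrCharacter (Cfsg.Sz F m) := ⟨_, isIrr_steinberg hF hm⟩
  have honeK : IsKnown hF hm one := Or.inl rfl
  have hstK : IsKnown hF hm st := Or.inr (Or.inl rfl)
  have hone_st : one ≠ st := fun e => one_ne_steinberg hF hm (congrArg Subtype.val e)
  set s := insert one (insert st (insert w₁ (insert w₂ R)))
  have hs : ∀ χ ∈ s, n * mult χ (trivA (A := A)) ≠ ∑ φ : Cfsg.IrrCharacter A, mult χ φ := by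
    intro χ hχ h
    have hd := sum_mult hA χ
    rw [← h] at hd
    have hS := sum_torus_sub hA χ
    rw [← h, sub_self, Int.cast_zero] at hS
    simp only [s, mem_insert] at hχ
    have hnn : (2 : ℤ) ≤ n := by simp only [n]; omega
    have hone1 : ((univ : Finset A).erase 1).card ≠ 0 := by
      rw [card_erase_of_mem (mem_univ _), card_univ, ← Nat.card_eq_fintype_card]; omega
    rcases hχ with rfl | rfl | rfl | rfl | hR
    · simp only [one, Pi.one_apply, sum_const, nsmul_eq_mul, mul_one, Nat.cast_eq_zero] at hS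
      exact hone1 hS
    · rw [sum_congr rfl (g := fun _ => (-1 : ℂ)) fun (u : A) hu =>
        (steinberg_values hF hm).2.2.2 u (hA.fpf u u.2 fun e => ne_of_mem_erase hu (Subtype.ext e))]
        at hS
      simp only [sum_const, nsmul_eq_mul, mul_neg, mul_one, neg_eq_zero, Nat.cast_eq_zero] at hS
      exact hone1 hS
    iterate 2
      obtain ⟨k, hk⟩ := hrel
      rw [(by assumption : Data hF hm χ 0 (2 ^ m)).deg] at hd
      have e : ((Fintype.card F : ℤ) - 1) * 2 ^ m = n * mult χ (trivA (A := A)) := by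
        rw [← @Int.cast_inj ℂ]; push_cast at hd ⊢; exact hd
      rw [e] at hk
      have hdvd : n ∣ 1 := ⟨mult χ (trivA (A := A)) * (n * mult χ (trivA (A := A))) - k, by
        linear_combination -hk⟩
      have := Int.le_of_dvd one_pos hdvd
      omega
    exact hcon χ hR _ hd
  have hscard : s.card = R.card + 4 := by
    have a1 : w₂ ∉ R := h2R
    have a2 : w₁ ∉ insert w₂ R := by simp [hne, h1R]
    have a3 : st ∉ insert w₁ (insert w₂ R) := by
      simp only [mem_insert, not_or]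
      exact ⟨fun e => hw₁.not_known (e ▸ hstK), fun e => hw₂.not_known (e ▸ hstK),
        fun e => hRnk st e hstK⟩
    have a4 : one ∉ insert st (insert w₁ (insert w₂ R)) := by
      simp only [mem_insert, not_or]
      exact ⟨hone_st, fun e => hw₁.not_known (e ▸ honeK), fun e => hw₂.not_known (e ▸ honeK),
        fun e => hRnk one e honeK⟩
    simp only [s, card_insert_of_notMem a4, card_insert_of_notMem a3, card_insert_of_notMem a2,
      card_insert_of_notMem a1]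
  rcases four_card_rows_le hA h5 s hs with ⟨-, hs5⟩ | hs4
  · omega
  · omega

/-- The character degrees of the Suzuki group. -/
theorem degrees :
    (∀ χ : Cfsg.IrrCharacter (Cfsg.Sz F m),
      let d := Cfsg.charDegree (χ : Cfsg.Sz F m → ℂ)
      d = 1 ∨ d = Fintype.card F ^ 2 ∨ d = Fintype.card F ^ 2 + 1 ∨
        (∃ X, Odd X ∧ d = (Fintype.card F - 1) * X) ∨ d = (Fintype.card F - 1) * 2 ^ m) ∧
    (∃ χ : Cfsg.IrrCharacter (Cfsg.Sz F m),
      Cfsg.charDegree (χ : Cfsg.Sz F m → ℂ) = Fintype.card F ^ 2) ∧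
    (∃ χ : Cfsg.IrrCharacter (Cfsg.Sz F m),
      Cfsg.charDegree (χ : Cfsg.Sz F m → ℂ) = Fintype.card F ^ 2 + 1) ∧
    (∃ χ : Cfsg.IrrCharacter (Cfsg.Sz F m),
      Cfsg.charDegree (χ : Cfsg.Sz F m → ℂ) = (Fintype.card F - 1) * 2 ^ m) ∧
    ∀ p : ℕ, p.Prime → p ∣ Fintype.card F ^ 2 + 1 → ∃ χ : Cfsg.IrrCharacter (Cfsg.Sz F m),
      p ∣ Cfsg.charDegree (χ : Cfsg.Sz F m → ℂ) ∧
      (Fintype.card F - 1) ∣ Cfsg.charDegree (χ : Cfsg.Sz F m → ℂ) := by
  classical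
  obtain ⟨h8, -⟩ := q_facts hF hm
  obtain ⟨R, w₁, w₂, X, hRcard, h1R, h2R, hne, hiff, hR, hw₁, hw₂, hu⟩ := exists_split hF hm
  obtain ⟨A₁, A₂, hA₁, hA₂, h1, h2, hfpf⟩ := exists_tori hF hm
  haveI : Fintype A₁ := Fintype.ofFinite _
  haveI : Fintype A₂ := Fintype.ofFinite _
  obtain rfl : X = 2 ^ m := pair_X hF hm hw₁ hu hA₁ hA₂ h1 h2 hfpf
  have hsq : 2 ^ (m + 1) ≤ Fintype.card F := by
    rw [hF]; exact Nat.pow_le_pow_right (by norm_num) (by omega)
  refine ⟨fun χ => ?_, ⟨⟨_, isIrr_steinberg hF hm⟩, BC87.charDegree_eq (by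
    change (indB hF hm 1 - 1) 1 = _
    rw [(steinberg_values hF hm).1]; push_cast; rfl)⟩, ?_,
    ⟨w₁, charDegree_of_data hF hm hw₁⟩, fun p hp hpd => ?_⟩
  · simp only
    by_cases hk : IsKnown hF hm χ
    · rcases charDegree_of_known hF hm hk with h | h | h
      exacts [Or.inl h, Or.inr (Or.inl h), Or.inr (Or.inr (Or.inl h))]
    · rcases (hiff χ).1 hk with h | rfl | rfl
      · obtain ⟨Y, hY⟩ := hR χ h
        refine Or.inr (Or.inr (Or.inr (Or.inl ⟨Y, ?_, charDegree_of_data hF hm hY⟩)))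
        have h2d : ((2 : ℕ) : ℤ) ∣ (Y : ℤ) - (1 : ℕ) :=
          dvd_trans (Int.natCast_dvd_natCast.2 (dvd_pow_self 2 (by omega))) hY.dvd
        rw [Nat.odd_iff]
        push_cast at h2d
        omega
      · exact Or.inr (Or.inr (Or.inr (Or.inr (charDegree_of_data hF hm hw₁))))
      · exact Or.inr (Or.inr (Or.inr (Or.inr (charDegree_of_data hF hm hw₂))))
  · haveI : Fintype Fˣ := Fintype.ofFinite _
    haveI : Fintype (Fˣ →* ℂˣ) := Fintype.ofFinite _
    have hex : ∃ f : Fˣ →* ℂˣ, f ≠ 1 := by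
      by_contra h
      push Not at h
      have hc : Nat.card (Fˣ →* ℂˣ) ≤ 1 := Finite.card_le_one_iff_subsingleton.2
        ⟨fun a b => (h a).trans (h b).symm⟩
      rw [CommGroup.card_monoidHom_of_hasEnoughRootsOfUnity, Nat.card_units,
        Nat.card_eq_fintype_card] at hc
      omega
    obtain ⟨f, hf⟩ := hex
    refine ⟨⟨_, isIrr_indB hF hm hf⟩, BC87.charDegree_eq ?_⟩
    change indB hF hm f 1 = _
    rw [indB_one]; push_cast; rfl
  · have hq2 : Fintype.card F = 2 * (2 ^ m) ^ 2 := by rw [hF]; ring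
    have hp' : p ∣ Nat.card A₁ ∨ p ∣ Nat.card A₂ := by
      have hprod : Nat.card A₁ * Nat.card A₂ = Fintype.card F ^ 2 + 1 := by
        rw [h1, h2]
        zify [hsq]
        push_cast [hq2]
        ring
      exact hp.dvd_mul.1 (hprod ▸ hpd)
    have hgo : ∀ (A : Subgroup (Cfsg.Sz F m)) [Fintype A], IsTorus A → 5 ≤ Nat.card A →
        Nat.card A < 2 * Fintype.card F →
        (∃ k : ℤ, (((Fintype.card F : ℤ) - 1) * 2 ^ m) ^ 2 = (Nat.card A : ℤ) * k + 1) →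
        p ∣ Nat.card A → ∃ χ : Cfsg.IrrCharacter (Cfsg.Sz F m),
          p ∣ Cfsg.charDegree (χ : Cfsg.Sz F m → ℂ) ∧
          (Fintype.card F - 1) ∣ Cfsg.charDegree (χ : Cfsg.Sz F m → ℂ) := by
      intro A _ hA h5 hlt hrel hpA
      obtain ⟨χ, hχ, k, hk⟩ := exists_R_dvd hF hm hA h5 hlt hrel R hRcard h1R h2R hne
        (fun χ hχ => (hiff χ).2 (Or.inl hχ)) hw₁ hw₂
      obtain ⟨Y, hY⟩ := hR χ hχ
      refine ⟨χ, ?_, ⟨Y, charDegree_of_data hF hm hY⟩⟩
      have hd : (Cfsg.charDegree (χ : Cfsg.Sz F m → ℂ) : ℂ) = (χ : Cfsg.Sz F m → ℂ) 1 :=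
        (BC87.apply_one_eq χ).symm
      rw [hk, ← Int.cast_natCast, Int.cast_inj] at hd
      have : (p : ℤ) ∣ (Cfsg.charDegree (χ : Cfsg.Sz F m → ℂ) : ℤ) := by
        rw [hd]; exact (Int.natCast_dvd_natCast.2 hpA).mul_right _
      exact Int.natCast_dvd_natCast.1 this
    have hM1 : 2 ≤ 2 ^ m := by
      have := Nat.pow_le_pow_right (show 0 < 2 by norm_num) hm
      simpa using this
    have hM2 : 2 * 2 ^ m ≤ (2 ^ m) ^ 2 := by nlinarith
    rcases hp' with h | h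
    · refine hgo A₁ hA₁ (by omega) ?_ ⟨((2 : ℤ) ^ m - 1) ^ 2 * ((Fintype.card F : ℤ) + 2 ^ (m + 1) + 1)
        + 2 * ((2 : ℤ) ^ m - 1), ?_⟩ h
      · rw [h1, pow_succ']; omega
      · rw [h1]; push_cast; rw [hq2]; push_cast; ring
    · refine hgo A₂ hA₂ ?_ ?_ ⟨((2 : ℤ) ^ m + 1) ^ 2 * ((Fintype.card F : ℤ) - 2 ^ (m + 1) + 1)
        - 2 * ((2 : ℤ) ^ m + 1), ?_⟩ h
      · rw [h2, pow_succ', hq2]
        generalize hM : 2 ^ m = M at hM1 hM2
        have h4 : 2 * M + 4 ≤ 2 * M ^ 2 := by nlinarith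
        omega
      · rw [h2, pow_succ']; omega
      · rw [h2]; push_cast [hsq]; rw [hq2]; push_cast; ring

end Cfsg.Agent.BC86.Suz
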