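import Cfsg.Prelude.Def_Characters
import Cfsg.Agent.Lib.Suzuki.Tori
import Cfsg.Agent.Lib.Suzuki.Sylow
import Cfsg.Agent.Lib.CharCore.Complete
import Cfsg.Agent.Lib.CharInd.Classes

/-!
# Sums over the Suzuki group, organised by the four kinds of cyclic classes
-/

set_option autoImplicit false

namespace Cfsg.Agent.BC86.Suz

open Finset Cfsg.Agent.Suzuki

theorem apply_of_isConj {G : Type*} [Group G] {f : G → ℂ} (hf : Cfsg.IsClassFunction G f)
    {a b : G} (h : IsConj a b) : f b = f a := by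
  obtain ⟨c, rfl⟩ := isConj_iff.1 h
  exact hf a c

/-- Summing a class function over the conjugates of the non-identity elements of a TI subgroup. -/
theorem sum_cls {G : Type*} [Group G] [Fintype G] (H : Subgroup G) [Fintype H]
    [DecidablePred (· ∈ cls H)]
    (hTI : ∀ h u, u ∈ H → u ≠ 1 → h * u * h⁻¹ ∈ H → h ∈ Subgroup.normalizer (H : Set G))
    {f : G → ℂ} (hf : Cfsg.IsClassFunction G f) :
    (Nat.card (Subgroup.normalizer (H : Set G)) : ℂ) * (∑ g ∈ univ.filter (· ∈ cls H), f g)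
      = (Nat.card G : ℂ) * ((∑ u : H, f u) - f 1) := by
  classical
  set S : Finset (G × H) := univ.filter fun p => p.2 ≠ 1
  have hfib : ∀ g ∈ univ.filter (· ∈ cls H),
      (S.filter fun p => p.1 * (p.2 : G) * p.1⁻¹ = g).card =
        Nat.card (Subgroup.normalizer (H : Set G)) := by
    intro g hg
    obtain ⟨u, hu, hu1, h, he⟩ := (mem_filter.1 hg).2
    have hnorm : ∀ n : Subgroup.normalizer (H : Set G), (n : G)⁻¹ * u * n ∈ H := fun n => by
      simpa using (Subgroup.mem_normalizer_iff.1 (inv_mem n.2) u).1 hu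
    rw [Nat.card_eq_fintype_card, ← Finset.card_univ]
    refine (Finset.card_bij
      (fun (n : Subgroup.normalizer (H : Set G)) _ =>
        ((h * n, ⟨(n : G)⁻¹ * u * n, hnorm n⟩) : G × H)) ?_ ?_ ?_).symm
    · intro n _
      refine mem_filter.2 ⟨mem_filter.2 ⟨mem_univ _, fun e => hu1 ?_⟩, ?_⟩
      · have e' := congrArg Subtype.val e
        simp only [OneMemClass.coe_one] at e'
        simpa [mul_assoc] using congrArg (fun t => (n : G) * t * (n : G)⁻¹) e'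
      · rw [← he]; group
    · intro a _ b _ e
      exact Subtype.ext (mul_left_cancel (congrArg Prod.fst e))
    · rintro ⟨x, v⟩ hp
      obtain ⟨hS, hx⟩ := mem_filter.1 hp
      have hv : (v : G) ≠ 1 := fun e => (mem_filter.1 hS).2 (Subtype.ext e)
      change x * (v : G) * x⁻¹ = g at hx
      have key : h⁻¹ * x * (v : G) * (h⁻¹ * x)⁻¹ = u := by
        rw [show h⁻¹ * x * (v : G) * (h⁻¹ * x)⁻¹ = h⁻¹ * (x * v * x⁻¹) * h by group, hx, ← he]
        group
      have hn := hTI (h⁻¹ * x) v v.2 hv (by rw [key]; exact hu)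
      refine ⟨⟨h⁻¹ * x, hn⟩, mem_univ _, ?_⟩
      refine Prod.ext (mul_inv_cancel_left h x) (Subtype.ext ?_)
      change (h⁻¹ * x)⁻¹ * u * (h⁻¹ * x) = v
      rw [← key]; group
  have hmaps : ∀ p ∈ S, p.1 * (p.2 : G) * p.1⁻¹ ∈ univ.filter (· ∈ cls H) := fun p hp =>
    mem_filter.2 ⟨mem_univ _, p.2, p.2.2, fun e => (mem_filter.1 hp).2 (Subtype.ext e), p.1, rfl⟩
  have h1 : ∑ p ∈ S, f (p.1 * (p.2 : G) * p.1⁻¹) =
      (Nat.card G : ℂ) * ((∑ u : H, f u) - f 1) := by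
    simp only [S, Finset.sum_filter, Fintype.sum_prod_type, hf _ _]
    have e : (∑ u : H, if u ≠ 1 then f u else 0) = (∑ u : H, f u) - f 1 := by
      rw [← Finset.sum_filter, Finset.filter_ne', Finset.sum_erase_eq_sub (mem_univ _),
        OneMemClass.coe_one]
    rw [e, Finset.sum_const, Finset.card_univ, nsmul_eq_mul, Nat.card_eq_fintype_card]
  rw [← h1, Finset.mul_sum, ← Finset.sum_fiberwise_of_maps_to hmaps]
  refine Finset.sum_congr rfl fun g hg => ?_
  rw [Finset.sum_congr rfl fun p hp => congrArg f (mem_filter.1 hp).2, Finset.sum_const, hfib g hg,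
    nsmul_eq_mul]

variable {F : Type*} [Field F] [Fintype F] {m : ℕ} (hF : Fintype.card F = 2 ^ (2 * m + 1))

/-- `A` behaves like one of the fixed-point-free tori. -/
structure IsTorus (A : Subgroup (Cfsg.Sz F m)) : Prop where
  ti : ∀ h u, u ∈ A → u ≠ 1 → h * u * h⁻¹ ∈ A →
    h ∈ Subgroup.normalizer (A : Set (Cfsg.Sz F m))
  cent : ∀ u ∈ A, u ≠ 1 → Subgroup.centralizer {u} = A
  fpf : ∀ u ∈ A, u ≠ 1 → Fpf u
  card_norm : Nat.card (Subgroup.normalizer (A : Set (Cfsg.Sz F m))) = 4 * Nat.card A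

include hF

omit [Fintype F] hF in
theorem cls_torus_disjoint {A B : Subgroup (Cfsg.Sz F m)} (hA : IsTorus A) (hB : IsTorus B)
    (hne : Nat.card A ≠ Nat.card B) : Disjoint (cls A) (cls B) := by
  rw [Set.disjoint_left]
  rintro x ⟨u, hu, hu1, h, e⟩ ⟨v, hv, hv1, k, e'⟩
  apply hne
  have h1 : ∀ {C : Subgroup (Cfsg.Sz F m)}, IsTorus C → ∀ w y, w ∈ C → w ≠ 1 →
      y * w * y⁻¹ = x → Nat.card C = Nat.card (Subgroup.centralizer {x}) := by
    intro C hC w y hw hw1 he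
    rw [← he, Suzuki.centralizer_conj, hC.cent w hw hw1]
    exact Nat.card_congr
      (Subgroup.equivMapOfInjective C (MulAut.conj y).toMonoidHom (MulAut.conj y).injective).toEquiv
  rw [h1 hA u h hu hu1 e, h1 hB v k hv hv1 e']

theorem exists_tori (hm : 1 ≤ m) :
    ∃ A₁ A₂ : Subgroup (Cfsg.Sz F m), IsTorus A₁ ∧ IsTorus A₂ ∧
      Nat.card A₁ = Fintype.card F + 2 ^ (m + 1) + 1 ∧
      Nat.card A₂ = Fintype.card F - 2 ^ (m + 1) + 1 ∧
      ∀ g : Cfsg.Sz F m, Fpf g ↔ g ∈ cls A₁ ∪ cls A₂ := by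
  classical
  obtain ⟨g₁, g₂, hg₁, hg₂, h1, h2, h3, h4⟩ := torus_orders hF hm
  have ht : ∀ {g}, Fpf g → Nat.card (Subgroup.normalizer
      (Subgroup.centralizer {g} : Set (Cfsg.Sz F m))) = 4 * Nat.card (Subgroup.centralizer {g}) →
      IsTorus (Subgroup.centralizer {g}) := fun hg h => ⟨torus_TI hF hm hg,
    fun u hu hu1 => ((torus hF hm hg).2 u hu hu1).2,
    fun u hu hu1 => ((torus hF hm hg).2 u hu hu1).1, h⟩
  refine ⟨_, _, ht hg₁ h3, ht hg₂ h4, h1, h2, fun g => ?_⟩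
  have hsub : ∀ {C : Subgroup (Cfsg.Sz F m)}, IsTorus C → cls C ⊆ {g | Fpf g} := by
    rintro C hC _ ⟨u, hu, hu1, h, rfl⟩
    exact fpf_conj (hC.fpf u hu hu1) h
  have hle : 2 ^ (m + 1) ≤ Fintype.card F := by
    rw [hF]; exact Nat.pow_le_pow_right (by norm_num) (by omega)
  have hpos : 0 < 2 ^ (m + 1) := Nat.two_pow_pos _
  have hdis := cls_torus_disjoint (ht hg₁ h3) (ht hg₂ h4) (by rw [h1, h2]; omega)
  have hn₁ := ncard_cls _ (ht hg₁ h3).ti
  have hn₂ := ncard_cls _ (ht hg₂ h4).ti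
  rw [h3, h1, card_Sz hF hm, ← hF] at hn₁
  rw [h4, h2, card_Sz hF hm, ← hF] at hn₂
  have hE := two_ncard_fpf hF hm
  have hsubU := Set.union_subset (hsub (ht hg₁ h3)) (hsub (ht hg₂ h4))
  have heq : cls (Subgroup.centralizer {g₁}) ∪ cls (Subgroup.centralizer {g₂}) = {g | Fpf g} := by
    refine Set.eq_of_subset_of_ncard_le hsubU (le_of_eq ?_) (Set.toFinite _)
    rw [Set.ncard_union_eq hdis (Set.toFinite _) (Set.toFinite _)]
    have hss : 2 ^ (m + 1) * 2 ^ (m + 1) = 2 * Fintype.card F := by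
      rw [hF, ← pow_add, ← pow_succ']
      congr 1
      omega
    generalize (cls (Subgroup.centralizer {g₁})).ncard = Γ₁ at hn₁
    generalize (cls (Subgroup.centralizer {g₂})).ncard = Γ₂ at hn₂
    generalize {g : Cfsg.Sz F m | Fpf g}.ncard = E at hE ⊢
    have h8 := (q_facts hF hm).1
    generalize hq : Fintype.card F = q at hn₁ hn₂ hE hle hss h8
    generalize hr : 2 ^ (m + 1) = r at hn₁ hn₂ hle hss hpos
    rw [Nat.add_sub_cancel] at hn₁ hn₂
    zify [hle, show 1 ≤ q by omega] at hn₁ hn₂ hE hss ⊢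
    have hX : 8 * ((q : ℤ) ^ 2 + 1) * ((Γ₁ : ℤ) + Γ₂ - E) = 0 := by
      linear_combination (2 * ((q : ℤ) - r + 1)) * hn₁ + (2 * ((q : ℤ) + r + 1)) * hn₂
        - (4 * ((q : ℤ) ^ 2 + 1)) * hE
        + (-4 * ((q : ℤ) ^ 2 * ((q : ℤ) ^ 2 + 1) * ((q : ℤ) - 1))
            + 8 * ((Γ₁ : ℤ) + Γ₂)) * hss
    rcases mul_eq_zero.1 hX with h | h
    · exfalso; nlinarith [sq_nonneg (q : ℤ)]
    · linarith
  exact (Set.ext_iff.1 heq g).symm

/-- The elements of the Suzuki group sorted by fixed points. -/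
theorem mem_cases (hm : 1 ≤ m) (g : Cfsg.Sz F m) :
    g = 1 ∨ g ∈ cls (USub hF) ∨ g ∈ cls (THom hF).range ∨ Fpf g := by
  by_cases hg : g = 1
  · exact Or.inl hg
  rcases classify hF hm hg with h | ⟨a, b, h, h1, e⟩ | ⟨k, h, h1, e⟩
  · exact Or.inr (Or.inr (Or.inr h))
  · exact Or.inr (Or.inl ⟨_, U_mem_USub hF a b, h1, h, e.symm⟩)
  · exact Or.inr (Or.inr (Or.inl
      ⟨_, ⟨k, rfl⟩, fun h' => h1 (T_inj hF (h'.trans (T_one hF).symm)), h, e.symm⟩))

theorem sum_USub (f : Cfsg.Sz F m → ℂ) [Fintype (USub hF)] :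
    ∑ u : USub hF, f u = ∑ a : F, ∑ b : F, f (U hF a b) := by
  rw [← Fintype.sum_prod_type']
  exact (Fintype.sum_equiv (USubEquiv hF) _ _ fun p => rfl).symm

theorem sum_THom (f : Cfsg.Sz F m → ℂ) [Fintype (THom hF).range] [Fintype Fˣ] :
    ∑ u : (THom hF).range, f u = ∑ k : Fˣ, f (T hF k) :=
  (Fintype.sum_equiv (MonoidHom.ofInjective (f := THom hF) fun a b h => T_inj hF h).toEquiv _ _
    fun k => rfl).symm

/-- The sum of a class function over the Suzuki group. -/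
theorem four_sum_classFun (hm : 1 ≤ m) [Fintype (Cfsg.Sz F m)] [Fintype Fˣ]
    {A₁ A₂ : Subgroup (Cfsg.Sz F m)} [Fintype A₁] [Fintype A₂] (hA₁ : IsTorus A₁)
    (hA₂ : IsTorus A₂) (h1 : Nat.card A₁ = Fintype.card F + 2 ^ (m + 1) + 1)
    (h2 : Nat.card A₂ = Fintype.card F - 2 ^ (m + 1) + 1)
    (hfpf : ∀ g : Cfsg.Sz F m, Fpf g ↔ g ∈ cls A₁ ∪ cls A₂)
    {f : Cfsg.Sz F m → ℂ} (hf : Cfsg.IsClassFunction (Cfsg.Sz F m) f) :
    let q : ℂ := (Fintype.card F : ℂ)
    4 * ∑ g, f g = 4 * f 1 + 4 * (q ^ 2 + 1) * ((∑ a : F, ∑ b : F, f (U hF a b)) - f 1)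
      + 2 * q ^ 2 * (q ^ 2 + 1) * ((∑ k : Fˣ, f (T hF k)) - f 1)
      + q ^ 2 * (q - 1) * (Nat.card A₂ : ℂ) * ((∑ u : A₁, f u) - f 1)
      + q ^ 2 * (q - 1) * (Nat.card A₁ : ℂ) * ((∑ u : A₂, f u) - f 1) := by
  classical
  intro q
  haveI : Fintype (USub hF) := Fintype.ofFinite _
  haveI : Fintype (THom hF).range := Fintype.ofFinite _
  obtain ⟨h8, -⟩ := q_facts hF hm
  have hle : 2 ^ (m + 1) ≤ Fintype.card F := by
    rw [hF]; exact Nat.pow_le_pow_right (by norm_num) (by omega)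
  have hpos : 0 < 2 ^ (m + 1) := Nat.two_pow_pos _
  have hne : Nat.card A₁ ≠ Nat.card A₂ := by rw [h1, h2]; omega
  have hone : ∀ (H : Subgroup (Cfsg.Sz F m)), (1 : Cfsg.Sz F m) ∉ cls H := by
    rintro H ⟨u, -, hu1, h, e⟩
    exact hu1 (conj_eq_one_iff.1 e)
  have hdis := cls_torus_disjoint hA₁ hA₂ hne
  have hUT := cls_U_T_disjoint hF (m := m)
  have hpart : ∀ g, f g = (if g = 1 then f g else 0) + (if g ∈ cls (USub hF) then f g else 0)
      + (if g ∈ cls (THom hF).range then f g else 0) + (if g ∈ cls A₁ then f g else 0)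
      + (if g ∈ cls A₂ then f g else 0) := by
    intro g
    have hnot : ∀ {C : Subgroup (Cfsg.Sz F m)}, IsTorus C → g ∈ cls C →
        g ∉ cls (USub hF) ∧ g ∉ cls (THom hF).range := fun hC hg => by
      have : Fpf g := by
        obtain ⟨u, hu, hu1, h, rfl⟩ := hg
        exact fpf_conj (hC.fpf u hu hu1) h
      exact ⟨fun h => cls_U_not_fpf hF h this, fun h => cls_T_not_fpf hF h this⟩
    rcases mem_cases hF hm g with h | h | h | h
    · subst h
      simp [hone]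
    · have hT : g ∉ cls (THom hF).range := fun h' => Set.disjoint_left.1 hUT h h'
      have a1 : g ∉ cls A₁ := fun h' => (hnot hA₁ h').1 h
      have a2 : g ∉ cls A₂ := fun h' => (hnot hA₂ h').1 h
      have g1 : g ≠ 1 := fun e => hone _ (e ▸ h)
      simp [h, hT, a1, a2, g1]
    · have hU : g ∉ cls (USub hF) := fun h' => Set.disjoint_left.1 hUT h' h
      have a1 : g ∉ cls A₁ := fun h' => (hnot hA₁ h').2 h
      have a2 : g ∉ cls A₂ := fun h' => (hnot hA₂ h').2 h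
      have g1 : g ≠ 1 := fun e => hone _ (e ▸ h)
      simp [h, hU, a1, a2, g1]
    · have g1 : g ≠ 1 := fpf_ne_one h
      rcases (hfpf g).1 h with h' | h'
      · have := Set.disjoint_left.1 hdis h'
        obtain ⟨u1, u2⟩ := hnot hA₁ h'
        simp [h', this, u1, u2, g1]
      · have := Set.disjoint_right.1 hdis h'
        obtain ⟨u1, u2⟩ := hnot hA₂ h'
        simp [h', this, u1, u2, g1]
  have hU := sum_cls (USub hF) (TI_U hF hm) hf
  have hT := sum_cls (THom hF).range (TI_T hF hm) hf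
  have hS₁ := sum_cls A₁ hA₁.ti hf
  have hS₂ := sum_cls A₂ hA₂.ti hf
  rw [normalizer_USub hF hm, card_stabilizer_inf hF hm, sum_USub, card_Sz hF hm, ← hF] at hU
  rw [card_normalizer_T hF hm, sum_THom, card_Sz hF hm, ← hF] at hT
  rw [hA₁.card_norm, card_Sz hF hm, ← hF] at hS₁
  rw [hA₂.card_norm, card_Sz hF hm, ← hF] at hS₂
  rw [Finset.sum_congr rfl fun g _ => hpart g]
  simp only [Finset.sum_add_distrib, ← Finset.sum_filter, Finset.filter_eq', mem_univ, if_true,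
    Finset.sum_singleton]
  have hq1 : (1 : ℕ) ≤ Fintype.card F := by omega
  push_cast [Nat.cast_sub hq1] at hU hT hS₁ hS₂
  have hq2 : (q - 1) ≠ 0 := by
    simp only [q, sub_ne_zero]; exact_mod_cast (show Fintype.card F ≠ 1 by omega)
  have hq0 : q ≠ 0 := by simp only [q]; exact_mod_cast (show Fintype.card F ≠ 0 by omega)
  have hprod : (Nat.card A₁ : ℂ) * Nat.card A₂ = q ^ 2 + 1 := by
    have hss : 2 ^ (m + 1) * 2 ^ (m + 1) = 2 * Fintype.card F := by
      rw [hF, ← pow_add, ← pow_succ']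
      congr 1
      omega
    have hss' : ((2 : ℂ) ^ (m + 1)) * 2 ^ (m + 1) = 2 * q := by simp only [q]; exact_mod_cast hss
    rw [h1, h2]; push_cast [Nat.cast_sub hle]
    linear_combination -hss'
  have a0 : (Nat.card A₁ : ℂ) ≠ 0 := Nat.cast_ne_zero.2 Nat.card_pos.ne'
  have b0 : (Nat.card A₂ : ℂ) ≠ 0 := Nat.cast_ne_zero.2 Nat.card_pos.ne'
  have eU : (∑ g ∈ univ.filter (· ∈ cls (USub hF)), f g) =
      (q ^ 2 + 1) * ((∑ a : F, ∑ b : F, f (U hF a b)) - f 1) := by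
    apply mul_left_cancel₀ (mul_ne_zero (pow_ne_zero 2 hq0) hq2)
    linear_combination hU
  have eT : 2 * (∑ g ∈ univ.filter (· ∈ cls (THom hF).range), f g) =
      q ^ 2 * (q ^ 2 + 1) * ((∑ k : Fˣ, f (T hF k)) - f 1) := by
    apply mul_left_cancel₀ hq2
    linear_combination hT
  have e₁ : 4 * (∑ g ∈ univ.filter (· ∈ cls A₁), f g) =
      q ^ 2 * (q - 1) * (Nat.card A₂ : ℂ) * ((∑ u : A₁, f u) - f 1) := by
    apply mul_left_cancel₀ a0
    linear_combination hS₁ - (q ^ 2 * (q - 1) * ((∑ u : A₁, f u) - f 1)) * hprod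
  have e₂ : 4 * (∑ g ∈ univ.filter (· ∈ cls A₂), f g) =
      q ^ 2 * (q - 1) * (Nat.card A₁ : ℂ) * ((∑ u : A₂, f u) - f 1) := by
    apply mul_left_cancel₀ b0
    linear_combination hS₂ - (q ^ 2 * (q - 1) * ((∑ u : A₂, f u) - f 1)) * hprod
  linear_combination 4 * eU + 2 * eT + e₁ + e₂

end Cfsg.Agent.BC86.Suz
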