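import Cfsg.Agent.BC86.Suz.Borel
import Cfsg.Agent.BC87.FrobeniusSchur

/-!
# The irreducible characters of the Suzuki group that occur in the induced ones, and the others
-/

set_option autoImplicit false

namespace Cfsg.Agent.BC86.Suz

open Finset Cfsg.Agent.Suzuki
open scoped ComplexConjugate

variable {F : Type*} [Field F] [Fintype F] {m : ℕ} (hF : Fintype.card F = 2 ^ (2 * m + 1))
  (hm : 1 ≤ m) [Fintype (Cfsg.Sz F m)]
include hF hm

/-- The trivial character, the Steinberg character and the induced irreducible characters. -/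
def IsKnown (χ : Cfsg.IrrCharacter (Cfsg.Sz F m)) : Prop :=
  (χ : Cfsg.Sz F m → ℂ) = 1 ∨ (χ : Cfsg.Sz F m → ℂ) = indB hF hm 1 - 1 ∨
    ∃ f : Fˣ →* ℂˣ, f ≠ 1 ∧ (χ : Cfsg.Sz F m → ℂ) = indB hF hm f

omit hF hm [Fintype F] [Fintype (Cfsg.Sz F m)] in
theorem hom_one_inv : (1 : Fˣ →* ℂˣ)⁻¹ = 1 := MonoidHom.ext fun _ => inv_one (G := ℂˣ)

omit hF hm [Fintype F] [Fintype (Cfsg.Sz F m)] in
theorem hom_eq_one_of_inv {f : Fˣ →* ℂˣ} (h : f⁻¹ = 1) : f = 1 :=
  MonoidHom.ext fun k => inv_eq_one.1 (DFunLike.congr_fun h k : (f k)⁻¹ = 1)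

theorem one_ne_inv {f : Fˣ →* ℂˣ} [Fintype Fˣ] (hf : f ≠ 1) : f ≠ f⁻¹ :=
  fun h => hf ((hom_eq_inv_iff hF hm).1 h)

theorem isIrr_indB {f : Fˣ →* ℂˣ} (hf : f ≠ 1) :
    Cfsg.IsIrrCharacter (Cfsg.Sz F m) (indB hF hm f) := by
  classical
  haveI : Fintype Fˣ := Fintype.ofFinite _
  refine CharCore.isIrrCharacter_iff.2 ⟨isCharacter_indB hF hm f, ?_⟩
  rw [classInner_indB, if_pos rfl, if_neg (one_ne_inv hF hm hf), add_zero]

theorem indB_mult_one : Cfsg.classInner (indB hF hm 1) (1 : Cfsg.Sz F m → ℂ) = 1 := by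
  classical
  haveI : Fintype (Bsub F m) := Fintype.ofFinite _
  rw [indB, CharInd.classInner_indFun_left (χ := (1 : Cfsg.Sz F m → ℂ)) _ _ (fun _ _ => rfl),
    CharCore.classInner_def]
  simp [Nat.card_eq_fintype_card]
  exact inv_mul_cancel₀ (Nat.cast_ne_zero.2 (Fintype.card_pos_iff.2 ⟨⟨1, one_smul _ _⟩⟩).ne')

theorem isIrr_steinberg :
    Cfsg.IsIrrCharacter (Cfsg.Sz F m) (indB hF hm 1 - 1) := by
  classical
  haveI : Fintype Fˣ := Fintype.ofFinite _
  obtain ⟨c, hc⟩ := CharCore.IsCharacter.exists_sum (isCharacter_indB hF hm 1)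
  set one : Cfsg.IrrCharacter (Cfsg.Sz F m) := ⟨1, CharCore.isIrrCharacter_one⟩
  have hinner : ∀ ψ : Cfsg.IrrCharacter (Cfsg.Sz F m), Cfsg.classInner (indB hF hm 1) (ψ : Cfsg.Sz F m → ℂ) = c ψ := fun ψ => by
    rw [hc, CharCore.classInner_sum_all]
  have h1 : c one = 1 := by
    have := (hinner one).symm.trans (indB_mult_one hF hm)
    exact_mod_cast this
  set c' : Cfsg.IrrCharacter (Cfsg.Sz F m) → ℕ := fun ψ => if ψ = one then 0 else c ψ
  have hsub : indB hF hm 1 - 1 = ∑ ψ, (c' ψ : ℂ) • (ψ : Cfsg.Sz F m → ℂ) := by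
    rw [hc, ← Finset.add_sum_erase _ _ (mem_univ one), h1,
      ← Finset.add_sum_erase _ (fun ψ => (c' ψ : ℂ) • _) (mem_univ one)]
    simp only [c', if_true, Nat.cast_zero, zero_smul, Nat.cast_one, one_smul, zero_add]
    rw [show ((one : Cfsg.IrrCharacter (Cfsg.Sz F m)) : Cfsg.Sz F m → ℂ) = 1 from rfl,
      add_sub_cancel_left]
    exact sum_congr rfl fun ψ hψ => by rw [if_neg (ne_of_mem_erase hψ)]
  refine CharCore.isIrrCharacter_iff.2 ⟨hsub ▸ CharCore.isCharacter_sum_irr c', ?_⟩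
  rw [CharCore.classInner_sub_left, CharCore.classInner_sub_right, CharCore.classInner_sub_right,
    classInner_indB, indB_mult_one, ← CharInd.classInner_swap (indB hF hm 1) 1, indB_mult_one,
    CharCore.classInner_irr_self one, if_pos hom_one_inv.symm, if_pos rfl, map_one]
  norm_num

theorem steinberg_values :
    (indB hF hm 1 - 1) (1 : Cfsg.Sz F m) = (Fintype.card F : ℂ) ^ 2 ∧
    (∀ a b : F, U hF a b ≠ 1 → (indB hF hm 1 - 1) (U hF a b) = 0) ∧
    (∀ k : Fˣ, k ≠ 1 → (indB hF hm 1 - 1) (T hF k) = 1) ∧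
    ∀ g : Cfsg.Sz F m, Fpf g → (indB hF hm 1 - 1) g = -1 := by
  refine ⟨?_, fun a b h => ?_, fun k hk => ?_, fun g hg => ?_⟩
  · rw [Pi.sub_apply, indB_one, Pi.one_apply]; ring
  · rw [Pi.sub_apply, indB_U hF hm _ h, Pi.one_apply, sub_self]
  · rw [Pi.sub_apply, indB_T hF hm _ hk, Pi.one_apply]; simp
  · rw [Pi.sub_apply, indB_fpf hF hm _ hg, Pi.one_apply, zero_sub]

theorem indB_eq_iff [Fintype Fˣ] {f g : Fˣ →* ℂˣ} (hg : g ≠ 1) :
    indB hF hm g = indB hF hm f ↔ g = f ∨ g = f⁻¹ := by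
  classical
  constructor
  · intro h
    have h1 := classInner_indB hF hm g f
    rw [← h, classInner_indB, if_pos rfl, if_neg (one_ne_inv hF hm hg)] at h1
    by_contra hne
    push Not at hne
    rw [if_neg hne.1, if_neg hne.2] at h1
    norm_num at h1
  · have hinv : ∀ e : Fˣ →* ℂˣ, e ≠ 1 → indB hF hm e = indB hF hm e⁻¹ := by
      intro e he
      have he' : e⁻¹ ≠ 1 := fun h => he (hom_eq_one_of_inv h)
      have h1 := classInner_indB hF hm e e⁻¹
      rw [if_neg (one_ne_inv hF hm he), if_pos (inv_inv e).symm, zero_add] at h1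
      by_contra hne
      have := CharCore.classInner_irr_of_ne (χ := ⟨_, isIrr_indB hF hm he⟩)
        (ψ := ⟨_, isIrr_indB hF hm he'⟩) (fun h => hne (congrArg Subtype.val h))
      rw [h1] at this
      exact one_ne_zero this
    rintro (rfl | rfl)
    · rfl
    · rw [← hinv f fun h => hg (by subst h; exact hom_one_inv)]

theorem one_ne_steinberg : (1 : Cfsg.Sz F m → ℂ) ≠ indB hF hm 1 - 1 := by
  intro h
  have h' := congrFun h 1
  rw [Pi.one_apply, (steinberg_values hF hm).1] at h'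
  have h8 := (q_facts hF hm).1
  have : Fintype.card F ^ 2 = 1 := by exact_mod_cast h'.symm
  nlinarith

theorem indB_ne_small {f : Fˣ →* ℂˣ} (φ : Cfsg.Sz F m → ℂ)
    (hφ : φ = 1 ∨ φ = indB hF hm 1 - 1) : indB hF hm f ≠ φ := by
  intro h
  have h' := congrFun h 1
  have h8 : (8 : ℕ) ≤ Fintype.card F := (q_facts hF hm).1
  rcases hφ with rfl | rfl
  · rw [indB_one, Pi.one_apply] at h'
    have : (Fintype.card F ^ 2 + 1 : ℕ) = 1 := by exact_mod_cast h'
    nlinarith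
  · rw [indB_one, (steinberg_values hF hm).1] at h'
    simp at h'

/-- A sum over the known characters. -/
theorem sum_known [Fintype Fˣ] [Fintype (Fˣ →* ℂˣ)] [DecidableEq (Fˣ →* ℂˣ)]
    [DecidablePred (IsKnown hF hm)] (h : (Cfsg.Sz F m → ℂ) → ℂ) :
    2 * ∑ χ ∈ univ.filter (IsKnown hF hm), h (χ : Cfsg.Sz F m → ℂ) =
      2 * h 1 + 2 * h (indB hF hm 1 - 1) + ∑ f ∈ univ.erase (1 : Fˣ →* ℂˣ), h (indB hF hm f) := by
  classical
  set one : Cfsg.IrrCharacter (Cfsg.Sz F m) := ⟨1, CharCore.isIrrCharacter_one⟩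
  set st : Cfsg.IrrCharacter (Cfsg.Sz F m) := ⟨_, isIrr_steinberg hF hm⟩
  set J := univ.filter fun χ : Cfsg.IrrCharacter (Cfsg.Sz F m) =>
    ∃ f : Fˣ →* ℂˣ, f ≠ 1 ∧ (χ : Cfsg.Sz F m → ℂ) = indB hF hm f with hJ
  have hne : one ≠ st := fun e => one_ne_steinberg hF hm (congrArg Subtype.val e)
  have hJne : ∀ χ ∈ J, χ ≠ one ∧ χ ≠ st := fun χ hχ => by
    obtain ⟨f, -, e⟩ := (mem_filter.1 hχ).2
    exact ⟨fun h' => indB_ne_small hF hm _ (Or.inl rfl) (e.symm.trans (congrArg Subtype.val h')),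
      fun h' => indB_ne_small hF hm _ (Or.inr rfl) (e.symm.trans (congrArg Subtype.val h'))⟩
  have hK : univ.filter (IsKnown hF hm) = insert one (insert st J) := by
    ext χ
    simp only [mem_filter, mem_univ, true_and, mem_insert, hJ, IsKnown]
    exact or_congr ⟨fun e => Subtype.ext e, congrArg Subtype.val⟩
      (or_congr ⟨fun e => Subtype.ext e, congrArg Subtype.val⟩ Iff.rfl)
  have hmaps : ∀ f ∈ univ.erase (1 : Fˣ →* ℂˣ),
      (if hf : f ≠ 1 then (⟨_, isIrr_indB hF hm hf⟩ : Cfsg.IrrCharacter (Cfsg.Sz F m)) else one) ∈ J := by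
    intro f hf
    rw [dif_pos (ne_of_mem_erase hf)]
    exact mem_filter.2 ⟨mem_univ _, f, ne_of_mem_erase hf, rfl⟩
  have hsum : ∑ f ∈ univ.erase (1 : Fˣ →* ℂˣ), h (indB hF hm f) =
      2 * ∑ χ ∈ J, h (χ : Cfsg.Sz F m → ℂ) := by
    rw [← Finset.sum_fiberwise_of_maps_to hmaps, Finset.mul_sum]
    refine sum_congr rfl fun χ hχ => ?_
    obtain ⟨f, hf, e⟩ := (mem_filter.1 hχ).2
    have hfib : (univ.erase (1 : Fˣ →* ℂˣ)).filter (fun g =>
        (if hg : g ≠ 1 then (⟨_, isIrr_indB hF hm hg⟩ : Cfsg.IrrCharacter (Cfsg.Sz F m)) else one) = χ) =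
        {f, f⁻¹} := by
      ext g
      simp only [mem_filter, mem_erase, mem_univ, and_true, mem_insert, mem_singleton]
      constructor
      · rintro ⟨hg, hgχ⟩
        rw [dif_pos hg] at hgχ
        exact (indB_eq_iff hF hm hg).1 ((congrArg Subtype.val hgχ).trans e)
      · intro hg
        have hg1 : g ≠ 1 := by
          rcases hg with rfl | rfl
          exacts [hf, fun h' => hf (hom_eq_one_of_inv h')]
        refine ⟨hg1, ?_⟩
        rw [dif_pos hg1]
        exact Subtype.ext (((indB_eq_iff hF hm hg1).2 hg).trans e.symm)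
    rw [hfib, Finset.sum_pair (one_ne_inv hF hm hf), e,
      ← (indB_eq_iff hF hm hf).2 (Or.inr (inv_inv f).symm), two_mul]
  rw [hK, sum_insert (by
      rw [mem_insert, not_or]
      exact ⟨hne, fun h' => (hJne one h').1 rfl⟩),
    sum_insert (fun h' => (hJne st h').2 rfl), hsum]
  show 2 * (h 1 + (h (indB hF hm 1 - 1) + _)) = _
  ring

theorem known_real {χ : Cfsg.IrrCharacter (Cfsg.Sz F m)} (hχ : IsKnown hF hm χ)
    (g : Cfsg.Sz F m) : conj ((χ : Cfsg.Sz F m → ℂ) g) = (χ : Cfsg.Sz F m → ℂ) g := by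
  have hre : ∀ f : Fˣ →* ℂˣ, conj (indB hF hm f g) = indB hF hm f g := by
    intro f
    have hcl : ∀ x y, IsConj x y → indB hF hm f y = indB hF hm f x := fun x y h =>
      apply_of_isConj (CharInd.isClassFunction_indFun _ _) h
    rcases mem_cases hF hm g with rfl | ⟨u, ⟨a, b, rfl⟩, hu, h, rfl⟩ | ⟨u, ⟨k, rfl⟩, hu, h, rfl⟩ | hg
    · rw [indB_one]; simp
    · rw [hcl _ _ (isConj_iff.2 ⟨h, rfl⟩), indB_U hF hm f hu, map_one]
    · rw [hcl _ _ (isConj_iff.2 ⟨h, rfl⟩)]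
      have hk : k ≠ 1 := fun e => hu (by rw [e, map_one])
      show conj (indB hF hm f (T hF k)) = indB hF hm f (T hF k)
      rw [indB_T hF hm f hk, map_add, conj_hom_apply, conj_hom_apply, inv_inv, add_comm]
    · rw [indB_fpf hF hm f hg, map_zero]
  rcases hχ with e | e | ⟨f, -, e⟩ <;> rw [e]
  · simp
  · rw [Pi.sub_apply, map_sub, hre]; simp
  · exact hre f

theorem classInner_of_not_known {χ : Cfsg.IrrCharacter (Cfsg.Sz F m)} (hχ : ¬ IsKnown hF hm χ)
    (f : Fˣ →* ℂˣ) : Cfsg.classInner (indB hF hm f) (χ : Cfsg.Sz F m → ℂ) = 0 := by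
  by_cases hf : f = 1
  · subst hf
    set one : Cfsg.IrrCharacter (Cfsg.Sz F m) := ⟨1, CharCore.isIrrCharacter_one⟩
    have h1 := CharCore.classInner_irr_of_ne (χ := one) (ψ := χ)
      fun e => hχ (Or.inl (congrArg Subtype.val e).symm)
    have h2 := CharCore.classInner_irr_of_ne (χ := ⟨_, isIrr_steinberg hF hm⟩) (ψ := χ)
      fun e => hχ (Or.inr (Or.inl (congrArg Subtype.val e).symm))
    rw [CharCore.classInner_sub_left] at h2
    change Cfsg.classInner (indB hF hm 1) _ - Cfsg.classInner (one : Cfsg.Sz F m → ℂ) _ = 0 at h2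
    rwa [h1, sub_zero] at h2
  · exact CharCore.classInner_irr_of_ne (χ := ⟨_, isIrr_indB hF hm hf⟩)
      fun e => hχ (Or.inr (Or.inr ⟨f, hf, (congrArg Subtype.val e).symm⟩))

/-- The other characters vanish on the split torus. -/
theorem apply_T_eq_zero {χ : Cfsg.IrrCharacter (Cfsg.Sz F m)} (hχ : ¬ IsKnown hF hm χ)
    {k : Fˣ} (hk : k ≠ 1) : (χ : Cfsg.Sz F m → ℂ) (T hF k) = 0 := by
  classical
  haveI : Fintype Fˣ := Fintype.ofFinite _
  haveI : Fintype (Fˣ →* ℂˣ) := Fintype.ofFinite _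
  set g := T hF k
  have hcol := BC87.sum_norm_sq_eq_card_centralizer g
  rw [natCard_centralizer_T hF hm hk] at hcol
  have hK := sum_known hF hm (fun φ => φ g * conj (φ g))
  have hJ : ∑ f ∈ univ.erase (1 : Fˣ →* ℂˣ), indB hF hm f g * conj (indB hF hm f g) =
      2 * ((Fintype.card F : ℂ) - 1) - 4 := by
    have hall : ∑ f : Fˣ →* ℂˣ, indB hF hm f g * conj (indB hF hm f g) =
        2 * ((Fintype.card F : ℂ) - 1) := by
      have hk2 : k * k ≠ 1 := fun h => hk (Units.ext (sq_inj hF (by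
        rw [Units.val_one, one_pow, pow_two, ← Units.val_mul, h]; rfl)))
      have hk2' : k⁻¹ * k⁻¹ ≠ 1 := fun h => hk2 (by
        rw [← inv_inv (k * k), _root_.mul_inv_rev, h, inv_one])
      have hq1 : (1 : ℕ) ≤ Fintype.card F := Fintype.card_pos
      have hu : (Fintype.card Fˣ : ℂ) = (Fintype.card F : ℂ) - 1 := by
        rw [← Nat.card_eq_fintype_card, Nat.card_units, Nat.card_eq_fintype_card,
          Nat.cast_sub hq1, Nat.cast_one]
      have hexp : ∀ f : Fˣ →* ℂˣ, indB hF hm f g * conj (indB hF hm f g) =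
          2 + ((f (k * k) : ℂ) + (f (k⁻¹ * k⁻¹) : ℂ)) := fun f => by
        simp only [g, indB_T hF hm f hk, map_add, conj_hom_apply, inv_inv]
        simp only [map_mul, map_inv, Units.val_mul]
        have h1 : (f k : ℂ) * ((f k)⁻¹ : ℂˣ) = 1 := Units.mul_inv _
        linear_combination 2 * h1
      simp only [hexp, sum_add_distrib, sum_hom_apply, if_neg hk2, if_neg hk2', sum_const,
        card_univ, nsmul_eq_mul, add_zero]
      rw [← hu, ← Nat.card_eq_fintype_card, ← Nat.card_eq_fintype_card,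
        CommGroup.card_monoidHom_of_hasEnoughRootsOfUnity]
      ring
    rw [sum_erase_eq_sub (mem_univ _), hall, indB_T hF hm 1 hk]
    simp; norm_num
  rw [hJ] at hK
  simp only [g, (steinberg_values hF hm).2.2.1 k hk, Pi.one_apply, map_one, mul_one] at hK
  rw [← sum_filter_add_sum_filter_not univ (IsKnown hF hm)] at hcol
  have h8 := (q_facts hF hm).1
  rw [Nat.cast_sub (by omega)] at hcol
  have h0 : ∑ ψ ∈ univ.filter (fun ψ => ¬ IsKnown hF hm ψ),
      (ψ : Cfsg.Sz F m → ℂ) g * conj ((ψ : Cfsg.Sz F m → ℂ) g) = 0 := by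
    push_cast at hcol
    linear_combination hcol - (1 / 2 : ℂ) * hK
  simp only [Complex.mul_conj, ← Complex.ofReal_sum, Complex.ofReal_eq_zero] at h0
  have := (sum_eq_zero_iff_of_nonneg fun ψ _ => Complex.normSq_nonneg _).1 h0 χ
    (mem_filter.2 ⟨mem_univ _, hχ⟩)
  exact Complex.normSq_eq_zero.1 this

end Cfsg.Agent.BC86.Suz
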