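import Cfsg.Agent.BC86.Suz.Known

/-!
# The characters of the Suzuki group that vanish on the split torus
-/

set_option autoImplicit false

namespace Cfsg.Agent.BC86.Suz

open Finset Cfsg.Agent.Suzuki
open scoped ComplexConjugate

variable {F : Type*} [Field F] [Fintype F] {m : ℕ} (hF : Fintype.card F = 2 ^ (2 * m + 1))
  (hm : 1 ≤ m) [Fintype (Cfsg.Sz F m)]
include hF hm

/-- The linear characters of `U` are functions of the first coordinate. -/
theorem hom_USub_apply (f : USub hF →* ℂˣ) (a b : F) :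
    f ⟨U hF a b, U_mem_USub hF a b⟩ = f ⟨U hF a 0, U_mem_USub hF a 0⟩ := by
  have e : (⟨U hF a b, U_mem_USub hF a b⟩ : USub hF) =
      ⟨U hF a 0, U_mem_USub hF a 0⟩ * ⟨U hF 0 b, U_mem_USub hF 0 b⟩ := Subtype.ext (by
    change _ = U hF a 0 * U hF 0 b
    rw [U_mul]; simp)
  have hz : (⟨U hF 0 b, U_mem_USub hF 0 b⟩ : USub hF) ∈ commutator (USub hF) := by
    rw [commutator_USub hF hm, Subgroup.mem_subgroupOf]
    exact ⟨b, rfl⟩
  rw [e, map_mul, MonoidHom.mem_ker.1 (Abelianization.commutator_subset_ker f hz), mul_one]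

theorem sum_hom_USub {f : USub hF →* ℂˣ} (hf : f ≠ 1) :
    ∑ a : F, (f ⟨U hF a 0, U_mem_USub hF a 0⟩ : ℂ) = 0 := by
  obtain ⟨c, hc⟩ : ∃ c, f ⟨U hF c 0, U_mem_USub hF c 0⟩ ≠ 1 := by
    by_contra h
    push Not at h
    refine hf (MonoidHom.ext fun ⟨u, hu⟩ => ?_)
    obtain ⟨a, b, rfl⟩ := hu
    rw [hom_USub_apply hF hm f a b, h a]; rfl
  have hmul : ∀ a, (f ⟨U hF (c + a) 0, U_mem_USub hF _ _⟩ : ℂ) =
      f ⟨U hF c 0, U_mem_USub hF c 0⟩ * f ⟨U hF a 0, U_mem_USub hF a 0⟩ := fun a => by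
    rw [← Units.val_mul, ← map_mul, show (⟨U hF c 0, U_mem_USub hF c 0⟩ : USub hF) *
      ⟨U hF a 0, U_mem_USub hF a 0⟩ = ⟨U hF (c + a) (0 + 0 + sig m c * a), U_mem_USub hF _ _⟩ from
      Subtype.ext (U_mul hF c 0 a 0), hom_USub_apply hF hm f (c + a) (0 + 0 + sig m c * a)]
  have hsum : ∑ a : F, (f ⟨U hF a 0, U_mem_USub hF a 0⟩ : ℂ) =
      f ⟨U hF c 0, U_mem_USub hF c 0⟩ * ∑ a : F, (f ⟨U hF a 0, U_mem_USub hF a 0⟩ : ℂ) := by
    rw [mul_sum, ← Fintype.sum_equiv (Equiv.addLeft c) (fun a => (f ⟨U hF (c + a) 0,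
      U_mem_USub hF _ _⟩ : ℂ)) (fun a => (f ⟨U hF a 0, U_mem_USub hF a 0⟩ : ℂ)) fun a => rfl]
    exact sum_congr rfl fun a _ => hmul a
  by_contra hne
  exact hc (Units.ext ((mul_eq_right₀ hne).1 hsum.symm))

theorem natCard_linear_USub :
    Nat.card {χ : Cfsg.IrrCharacter (USub hF) // (χ : USub hF → ℂ) 1 = 1} = Fintype.card F := by
  rw [CharCore.card_linearCharacters, commutator_USub hF hm]
  have hle : ZSub hF ≤ USub hF := fun _ ⟨b, hb⟩ => ⟨0, b, hb⟩
  have h := ((ZSub hF).subgroupOf (USub hF)).index_mul_card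
  rw [Nat.card_congr (Subgroup.subgroupOfEquivOfLe hle).toEquiv, card_ZSub, card_USub, ← hF,
    sq] at h
  exact Nat.eq_of_mul_eq_mul_right Fintype.card_pos h

section Single

variable {χ : Cfsg.IrrCharacter (Cfsg.Sz F m)}

theorem U_ne_one_of_left {a b : F} (ha : a ≠ 0) : U hF a b ≠ 1 := fun h => by
  rw [← U_zero hF] at h; exact ha (U_inj hF h).1

theorem re_apply_U {a b : F} (ha : a ≠ 0) :
    (χ : Cfsg.Sz F m → ℂ) (U hF a b) + conj ((χ : Cfsg.Sz F m → ℂ) (U hF a b)) =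
      (χ : Cfsg.Sz F m → ℂ) (U hF 1 0) + conj ((χ : Cfsg.Sz F m → ℂ) (U hF 1 0)) ∧
    (χ : Cfsg.Sz F m → ℂ) (U hF a b) * conj ((χ : Cfsg.Sz F m → ℂ) (U hF a b)) =
      (χ : Cfsg.Sz F m → ℂ) (U hF 1 0) * conj ((χ : Cfsg.Sz F m → ℂ) (U hF 1 0)) := by
  rcases isConj_U_or hF ha b with h | h <;>
    rw [apply_of_isConj (CharCore.irr_isClassFunction χ) h]
  · exact ⟨rfl, rfl⟩
  · rw [CharCore.irr_apply_inv, Complex.conj_conj, add_comm, mul_comm]
    exact ⟨rfl, rfl⟩

theorem apply_U_zero {b : F} (hb : b ≠ 0) :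
    (χ : Cfsg.Sz F m → ℂ) (U hF 0 b) = (χ : Cfsg.Sz F m → ℂ) (U hF 0 1) :=
  apply_of_isConj (CharCore.irr_isClassFunction χ) (isConj_U_zero hF hb)

theorem two_sum_U {a : F} (ha : a ≠ 0) :
    2 * ∑ b : F, (χ : Cfsg.Sz F m → ℂ) (U hF a b) = (Fintype.card F : ℂ) *
      ((χ : Cfsg.Sz F m → ℂ) (U hF 1 0) + conj ((χ : Cfsg.Sz F m → ℂ) (U hF 1 0))) := by
  have hpair : ∑ b : F, (χ : Cfsg.Sz F m → ℂ) (U hF a b) =
      ∑ b : F, conj ((χ : Cfsg.Sz F m → ℂ) (U hF a b)) := by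
    refine Fintype.sum_equiv (Equiv.addRight (sig m a * a)) _ _ fun b => ?_
    rw [← CharCore.irr_apply_inv, U_inv]
    simp only [Equiv.coe_addRight]
    rw [add_assoc, Suzuki.add_self hF, add_zero]
  rw [two_mul]
  nth_rewrite 2 [hpair]
  rw [← sum_add_distrib, sum_congr rfl fun b _ => (re_apply_U hF hm (b := b) ha).1, sum_const,
    card_univ, nsmul_eq_mul]

variable (hχ : ¬ IsKnown hF hm χ)
include hχ

theorem sum_USub_eq_zero : ∑ a : F, ∑ b : F, (χ : Cfsg.Sz F m → ℂ) (U hF a b) = 0 := by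
  classical
  haveI : Fintype (USub hF) := Fintype.ofFinite _
  haveI : Fintype (Bsub F m) := Fintype.ofFinite _
  rw [← sum_USub hF fun g => (χ : Cfsg.Sz F m → ℂ) g]
  have h := classInner_of_not_known hF hm hχ 1
  rw [indB, CharInd.classInner_indFun_left _ _ (CharCore.irr_isClassFunction χ),
    CharCore.classInner_def,
    mul_eq_zero, or_iff_right (inv_ne_zero (Nat.cast_ne_zero.2 Nat.card_pos.ne'))] at h
  simp only [MonoidHom.one_apply, Units.val_one, one_mul] at h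
  have hpt : ∀ g : Cfsg.Sz F m, (if g ∈ Bsub F m then conj ((χ : Cfsg.Sz F m → ℂ) g) else 0) =
      if g ∈ USub hF then conj ((χ : Cfsg.Sz F m → ℂ) g) else 0 := by
    intro g
    by_cases hU : g ∈ USub hF
    · obtain ⟨a, b, rfl⟩ := hU
      rw [if_pos (show U hF a b ∈ Bsub F m from U_smul_inf hF a b), if_pos (U_mem_USub hF a b)]
    rw [if_neg hU]
    split_ifs with hB
    swap
    · rfl
    rcases mem_cases hF hm g with rfl | ⟨u, ⟨a, b, rfl⟩, hu, x, rfl⟩ | ⟨u, ⟨k, rfl⟩, hu, x, rfl⟩ | hg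
    · exact absurd (one_mem _) hU
    · exfalso
      apply hU
      have hxB : x⁻¹ ∈ Bsub F m := by
        rw [MulAction.mem_stabilizer_iff]
        refine (U_fix hF (a := a) (b := b) (smul_mem_ovoid _ inf_mem_ovoid) ?_).resolve_right hu
        rw [MulAction.mem_stabilizer_iff] at hB
        conv_rhs => rw [← hB]
        simp only [← mul_smul]
        congr 1; group
      rw [show Bsub F m = _ from (normalizer_USub hF hm).symm] at hxB
      simpa using (Subgroup.mem_normalizer_iff.1 (inv_mem hxB) _).1 (U_mem_USub hF a b)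
    · rw [apply_of_isConj (CharCore.irr_isClassFunction χ) (isConj_iff.2 ⟨x, rfl⟩ : IsConj _ _)]
      change conj ((χ : Cfsg.Sz F m → ℂ) (T hF k)) = 0
      rw [apply_T_eq_zero hF hm hχ fun e => hu (by rw [e, map_one]), map_zero]
    · exact absurd (MulAction.mem_stabilizer_iff.1 hB) (hg _ inf_mem_ovoid)
  have e1 : ∀ (H : Subgroup (Cfsg.Sz F m)) [Fintype H],
      ∑ u : H, conj ((χ : Cfsg.Sz F m → ℂ) u) =
        ∑ g, if g ∈ H then conj ((χ : Cfsg.Sz F m → ℂ) g) else 0 := fun H _ => by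
    rw [← sum_filter]
    exact (sum_subtype _ (fun g => by simp) fun g => conj ((χ : Cfsg.Sz F m → ℂ) g)).symm
  have e2 : ∑ u : Bsub F m, conj ((χ : Cfsg.Sz F m → ℂ) u) =
      ∑ u : USub hF, conj ((χ : Cfsg.Sz F m → ℂ) u) := by
    rw [e1, e1]
    exact sum_congr rfl fun g _ => by convert hpt g
  rw [e2, ← map_sum] at h
  exact (map_eq_zero _).1 h

/-- The degree is a multiple of `q - 1`. -/
theorem exists_X : ∃ X : ℕ, (χ : Cfsg.Sz F m → ℂ) 1 = ((Fintype.card F : ℂ) - 1) * X := by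
  classical
  haveI : Fintype Fˣ := Fintype.ofFinite _
  obtain ⟨k, hk⟩ := CharCore.IsCharacter.exists_classInner_eq_natCast
    (CharCore.isCharacter_comp (CharCore.irr_isCharacter χ) (THom hF)) CharCore.isCharacter_one
  refine ⟨k, ?_⟩
  have hcard : (Nat.card Fˣ : ℂ) = (Fintype.card F : ℂ) - 1 := by
    rw [Nat.card_units, Nat.card_eq_fintype_card, Nat.cast_sub Fintype.card_pos, Nat.cast_one]
  rw [CharCore.classInner_def, inv_mul_eq_iff_eq_mul₀ (Nat.cast_ne_zero.2 Nat.card_pos.ne'),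
    hcard] at hk
  rw [← hk, sum_eq_single 1]
  · simp
  · intro l _ hl
    change (χ : Cfsg.Sz F m → ℂ) (T hF l) * _ = 0
    rw [apply_T_eq_zero hF hm hχ hl, zero_mul]
  · simp

/-- The multiplicity of a linear character of `U`. -/
theorem classInner_linear [Fintype (USub hF)] (f : USub hF →* ℂˣ) :
    Cfsg.classInner (fun u : USub hF => (χ : Cfsg.Sz F m → ℂ) u) (fun u => (f u : ℂ)) =
      if f = 1 then 0 else
        -((χ : Cfsg.Sz F m → ℂ) (U hF 1 0) + conj ((χ : Cfsg.Sz F m → ℂ) (U hF 1 0))) / 2 := by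
  classical
  set q : ℂ := (Fintype.card F : ℂ)
  set r : ℂ := ((χ : Cfsg.Sz F m → ℂ) (U hF 1 0) + conj ((χ : Cfsg.Sz F m → ℂ) (U hF 1 0)))
  set g : F → ℂ := fun a => conj (f ⟨U hF a 0, U_mem_USub hF a 0⟩ : ℂ)
  have hinner : Cfsg.classInner (fun u : USub hF => (χ : Cfsg.Sz F m → ℂ) u) (fun u => (f u : ℂ)) =
      (q ^ 2)⁻¹ * ∑ a : F, g a * ∑ b : F, (χ : Cfsg.Sz F m → ℂ) (U hF a b) := by
    rw [CharCore.classInner_def, card_USub, ← hF]
    push_cast
    congr 1
    simp only [mul_sum]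
    rw [← Fintype.sum_prod_type']
    refine (Fintype.sum_equiv (USubEquiv hF) _ _ fun p => ?_).symm
    change _ = (χ : Cfsg.Sz F m → ℂ) (U hF p.1 p.2) * conj (f ⟨U hF p.1 p.2, _⟩ : ℂ)
    rw [hom_USub_apply hF hm f p.1 p.2, mul_comm]
  have hg0 : g 0 = 1 := by
    simp only [g]
    rw [show (⟨U hF 0 0, U_mem_USub hF 0 0⟩ : USub hF) = 1 from Subtype.ext (U_zero hF), map_one]
    simp
  have hrest : ∀ a ∈ univ.erase (0 : F), (∑ b : F, (χ : Cfsg.Sz F m → ℂ) (U hF a b)) = q * r / 2 :=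
    fun a ha => by
      have := two_sum_U hF hm (χ := χ) (ne_of_mem_erase ha)
      linear_combination (1 / 2 : ℂ) * this
  have hzero : (∑ b : F, (χ : Cfsg.Sz F m → ℂ) (U hF 0 b)) = -((q - 1) * (q * r / 2)) := by
    have h := sum_USub_eq_zero hF hm hχ
    rw [← add_sum_erase _ _ (mem_univ (0 : F)), sum_congr rfl hrest, sum_const,
      card_erase_of_mem (mem_univ _), card_univ, nsmul_eq_mul, Nat.cast_sub Fintype.card_pos,
      Nat.cast_one] at h
    linear_combination h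
  have hgsum : ∑ a : F, g a = if f = 1 then q else 0 := by
    split_ifs with hf
    · subst hf; simp [g, q]
    · simp only [g]; rw [← map_sum, sum_hom_USub hF hm hf, map_zero]
  have hq : q ≠ 0 := Nat.cast_ne_zero.2 Fintype.card_ne_zero
  rw [hinner, ← add_sum_erase _ _ (mem_univ (0 : F)), hg0, one_mul, hzero,
    sum_congr rfl fun a ha => by rw [hrest a ha], ← sum_mul, sum_erase_eq_sub (mem_univ _), hg0,
    hgsum]
  split_ifs <;> field_simp <;> ring

/-- The invariants `a` and `X`. -/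
theorem exists_aX : ∃ a X : ℕ,
    (χ : Cfsg.Sz F m → ℂ) 1 = ((Fintype.card F : ℂ) - 1) * X ∧
    (χ : Cfsg.Sz F m → ℂ) (U hF 1 0) + conj ((χ : Cfsg.Sz F m → ℂ) (U hF 1 0)) = -2 * (a : ℂ) ∧
    (χ : Cfsg.Sz F m → ℂ) (U hF 0 1) = (Fintype.card F : ℂ) * a - X ∧
    ((2 ^ m : ℕ) : ℤ) ∣ (X : ℤ) - a := by
  classical
  haveI : Fintype (USub hF) := Fintype.ofFinite _
  obtain ⟨X, hX⟩ := exists_X hF hm hχ
  set q : ℂ := (Fintype.card F : ℂ) with hq
  set r : ℂ := ((χ : Cfsg.Sz F m → ℂ) (U hF 1 0) + conj ((χ : Cfsg.Sz F m → ℂ) (U hF 1 0)))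
  have h8 := (q_facts hF hm).1
  set res : Cfsg.IrrCharacter (USub hF) → ℕ := fun φ =>
    (CharCore.IsCharacter.exists_classInner_irr_eq_natCast
      (CharCore.isCharacter_restrict (CharCore.irr_isCharacter χ) (USub hF)) φ).choose
  have hres : ∀ φ : Cfsg.IrrCharacter (USub hF), Cfsg.classInner
      (fun u : USub hF => (χ : Cfsg.Sz F m → ℂ) u) φ = (res φ : ℂ) := fun φ =>
    (CharCore.IsCharacter.exists_classInner_irr_eq_natCast
      (CharCore.isCharacter_restrict (CharCore.irr_isCharacter χ) (USub hF)) φ).choose_spec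
  set one : Cfsg.IrrCharacter (USub hF) := ⟨1, CharCore.isIrrCharacter_one⟩
  set L := univ.filter fun φ : Cfsg.IrrCharacter (USub hF) => (φ : USub hF → ℂ) 1 = 1 with hL
  have hLcard : L.card = Fintype.card F := by
    rw [← natCard_linear_USub hF hm, Nat.card_eq_fintype_card, Fintype.card_subtype]
  have honeL : one ∈ L := mem_filter.2 ⟨mem_univ _, rfl⟩
  have hmult : ∀ φ ∈ L, (res φ : ℂ) = if φ = one then 0 else -r / 2 := by
    intro φ hφ
    obtain ⟨f, hf⟩ := CharCore.IsCharacter.exists_hom_of_degree_one (CharCore.irr_isCharacter φ)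
      (mem_filter.1 hφ).2
    rw [← hres φ, hf, classInner_linear hF hm hχ f]
    refine if_congr ⟨fun e => Subtype.ext ?_, fun e => ?_⟩ rfl rfl
    · rw [hf, e]; rfl
    · refine MonoidHom.ext fun u => Units.ext ?_
      have := congrFun (congrArg Subtype.val e) u
      rw [hf] at this
      simpa [one] using this
  obtain ⟨φ₀, hφ₀, hφ₀1⟩ := exists_mem_ne (s := L) (by omega) one
  set a := res φ₀
  have ha : r = -2 * (a : ℂ) := by
    simp only [a]
    rw [hmult φ₀ hφ₀, if_neg hφ₀1]; ring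
  refine ⟨a, X, hX, ha, ?_, ?_⟩
  · have h := sum_USub_eq_zero hF hm hχ
    rw [← add_sum_erase _ _ (mem_univ (0 : F)),
      sum_congr rfl (s₂ := univ.erase (0 : F)) fun x hx => show
        (∑ b : F, (χ : Cfsg.Sz F m → ℂ) (U hF x b)) = q * r / 2 by
        have := two_sum_U hF hm (χ := χ) (ne_of_mem_erase hx)
        linear_combination (1 / 2 : ℂ) * this,
      ← add_sum_erase _ _ (mem_univ (0 : F)), U_zero,
      sum_congr rfl (s₂ := univ.erase (0 : F)) fun x hx => apply_U_zero hF hm (ne_of_mem_erase hx)]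
      at h
    simp only [sum_const, card_erase_of_mem (mem_univ _), card_univ, nsmul_eq_mul] at h
    rw [Nat.cast_sub (by omega), hX, ha] at h
    have hq1 : q - 1 ≠ 0 := by
      simp only [q, sub_ne_zero]; exact_mod_cast (show Fintype.card F ≠ 1 by omega)
    apply mul_left_cancel₀ hq1
    push_cast at h
    linear_combination h
  · have hdec := congrFun (CharCore.IsCharacter.eq_sum_classInner
      (CharCore.isCharacter_restrict (CharCore.irr_isCharacter χ) (USub hF))) 1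
    simp only [Finset.sum_apply, Pi.smul_apply, smul_eq_mul, OneMemClass.coe_one, hres] at hdec
    rw [← sum_filter_add_sum_filter_not univ (fun φ => φ ∈ L), filter_mem_eq_inter, univ_inter,
      sum_congr rfl (s₂ := L) fun φ hφ => by rw [(mem_filter.1 hφ).2, mul_one],
      sum_congr rfl (s₂ := univ.filter fun φ => φ ∉ L) fun φ hφ => by
        rw [(irr_USub_degree hF hm φ).resolve_left fun e =>
          (mem_filter.1 hφ).2 (mem_filter.2 ⟨mem_univ _, e⟩)],
      ← add_sum_erase _ _ honeL, hmult one honeL, if_pos rfl, zero_add,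
      sum_congr rfl (s₂ := L.erase one) fun φ hφ => (hmult φ (mem_of_mem_erase hφ)).trans
        (if_neg (ne_of_mem_erase hφ)),
      sum_const, card_erase_of_mem honeL, hLcard, nsmul_eq_mul, ← sum_mul, hX, ha,
      Nat.cast_sub (by omega)] at hdec
    set k := ∑ φ ∈ univ.filter (fun φ => φ ∉ L), res φ
    have hk : ((Fintype.card F : ℤ) - 1) * ((X : ℤ) - a) = 2 ^ m * (k : ℤ) := by
      rw [← @Int.cast_inj ℂ]
      push_cast [k]
      push_cast at hdec
      linear_combination hdec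
    have hcop : IsCoprime ((2 ^ m : ℕ) : ℤ) ((Fintype.card F : ℤ) - 1) := by
      rw [hF]
      push_cast
      refine ⟨2 ^ (m + 1), -1, ?_⟩
      ring
    exact hcop.dvd_of_dvd_mul_left ⟨k, by rw [hk]; push_cast; ring⟩

end Single

end Cfsg.Agent.BC86.Suz
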