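import Cfsg.Agent.BC86.Suz.Others
import Cfsg.Agent.BC87.FrobeniusSchur

/-!
# The two kinds of characters vanishing on the split torus
-/

set_option autoImplicit false

namespace Cfsg.Agent.BC86.Suz

open Finset Cfsg.Agent.Suzuki
open scoped ComplexConjugate

variable {F : Type*} [Field F] [Fintype F] {m : ℕ} (hF : Fintype.card F = 2 ^ (2 * m + 1))
  (hm : 1 ≤ m) [Fintype (Cfsg.Sz F m)]
include hF hm

theorem not_isConj_inv : ¬ IsConj (U hF (1 : F) 0) (U hF 1 0)⁻¹ := by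
  intro h
  obtain ⟨g, hg⟩ := isConj_iff.1 h
  have hne : U hF (1 : F) 0 ≠ 1 := U_ne_one_of_left hF hm one_ne_zero
  have hU : g ∈ Subgroup.normalizer (USub hF : Set (Cfsg.Sz F m)) :=
    TI_U hF hm g _ (U_mem_USub hF 1 0) hne (by rw [hg]; exact inv_mem (U_mem_USub hF 1 0))
  rw [normalizer_USub hF hm, MulAction.mem_stabilizer_iff] at hU
  obtain ⟨c, d, k, rfl⟩ := eq_U_T_of_fix hF hm g hU
  rw [U_one_zero_inv hF, _root_.mul_inv_rev, show U hF c d * T hF k * U hF 1 0 *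
      ((T hF k)⁻¹ * (U hF c d)⁻¹) = U hF c d * (T hF k * U hF 1 0 * (T hF k)⁻¹) * (U hF c d)⁻¹
      by group, T_conj_U, U_inv, U_mul, U_mul, mul_one, mul_zero, add_zero] at hg
  obtain ⟨h1, h2⟩ := U_inj hF hg
  have hk : (k : F) = 1 := by linear_combination h1 - c * two_eq_zero hF
  rw [hk, sig_add hF, sig_one] at h2
  refine one_ne_sig_add hF c ?_
  linear_combination h2 - (d + sig m c * c) * two_eq_zero hF

theorem card_sqrt_U : Nat.card {s : Cfsg.Sz F m // s * s = U hF 1 0} = 0 := by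
  have hne : U hF (1 : F) 0 ≠ 1 := U_ne_one_of_left hF hm one_ne_zero
  haveI : IsEmpty {s : Cfsg.Sz F m // s * s = U hF 1 0} := ⟨fun ⟨s, hs⟩ => by
    have hsC : s ∈ Subgroup.centralizer ({U hF (1 : F) 0} : Set (Cfsg.Sz F m)) := by
      rw [Subgroup.mem_centralizer_singleton_iff, ← hs, mul_assoc]
    obtain ⟨c, d, rfl⟩ := centralizer_U_le hF hm hne hsC
    rw [U_mul] at hs
    have := (U_inj hF hs).1
    rw [Suzuki.add_self hF] at this
    exact zero_ne_one this⟩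
  exact Nat.card_of_isEmpty

theorem nu_indB {χ : Cfsg.IrrCharacter (Cfsg.Sz F m)} {f : Fˣ →* ℂˣ} (hf : f ≠ 1)
    (he : (χ : Cfsg.Sz F m → ℂ) = indB hF hm f) : BC87.nu (χ : Cfsg.Sz F m → ℂ) = 1 := by
  classical
  haveI : Fintype (⊥ : Subgroup (Cfsg.Sz F m)) := Fintype.ofFinite _
  refine BC87.nu_eq_one_of_odd (fun g => ?_) ⊥ (a := Fintype.card F ^ 2 + 1) ?_ ?_
  · exact Complex.conj_eq_iff_im.1 (known_real hF hm (Or.inr (Or.inr ⟨f, hf, he⟩)) g)
  · exact (((q_facts hF hm).2).pow_of_ne_zero two_ne_zero).add_one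
  · rw [CharCore.classInner_def, Fintype.sum_subsingleton _ (1 : (⊥ : Subgroup (Cfsg.Sz F m))),
      OneMemClass.coe_one, he, indB_one, Subgroup.card_bot]
    simp

/-- What is known about a character vanishing on the split torus. -/
structure Data (χ : Cfsg.IrrCharacter (Cfsg.Sz F m)) (a X : ℕ) : Prop where
  not_known : ¬ IsKnown hF hm χ
  deg : (χ : Cfsg.Sz F m → ℂ) 1 = ((Fintype.card F : ℂ) - 1) * X
  re : (χ : Cfsg.Sz F m → ℂ) (U hF 1 0) + conj ((χ : Cfsg.Sz F m → ℂ) (U hF 1 0)) = -2 * (a : ℂ)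
  invol : (χ : Cfsg.Sz F m → ℂ) (U hF 0 1) = (Fintype.card F : ℂ) * a - X
  dvd : ((2 ^ m : ℕ) : ℤ) ∣ (X : ℤ) - a

theorem exists_data {χ : Cfsg.IrrCharacter (Cfsg.Sz F m)} (hχ : ¬ IsKnown hF hm χ) :
    ∃ a X, Data hF hm χ a X := by
  obtain ⟨a, X, h1, h2, h3, h4⟩ := exists_aX hF hm hχ
  exact ⟨a, X, hχ, h1, h2, h3, h4⟩

/-- The split of the remaining characters: `q / 2` real ones and two complex conjugates. -/
theorem exists_split :
    ∃ (R : Finset (Cfsg.IrrCharacter (Cfsg.Sz F m))) (w₁ w₂ : Cfsg.IrrCharacter (Cfsg.Sz F m))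
      (X : ℕ), 2 * R.card = Fintype.card F ∧ w₁ ∉ R ∧ w₂ ∉ R ∧ w₁ ≠ w₂ ∧
      (∀ χ, ¬ IsKnown hF hm χ ↔ χ ∈ R ∨ χ = w₁ ∨ χ = w₂) ∧
      (∀ χ ∈ R, ∃ Y, Data hF hm χ 1 Y) ∧ Data hF hm w₁ 0 X ∧ Data hF hm w₂ 0 X ∧
      2 * ((w₁ : Cfsg.Sz F m → ℂ) (U hF 1 0) * conj ((w₁ : Cfsg.Sz F m → ℂ) (U hF 1 0))) =
        (Fintype.card F : ℂ) := by
  classical
  haveI : Fintype Fˣ := Fintype.ofFinite _
  haveI : Fintype (Fˣ →* ℂˣ) := Fintype.ofFinite _
  obtain ⟨h8, hev⟩ := q_facts hF hm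
  set u := U hF (1 : F) 0 with hu
  have hune : u ≠ 1 := U_ne_one_of_left hF hm one_ne_zero
  set q : ℂ := (Fintype.card F : ℂ) with hq
  set O := univ.filter fun χ : Cfsg.IrrCharacter (Cfsg.Sz F m) => ¬ IsKnown hF hm χ with hO
  have hchoose : ∀ χ : Cfsg.IrrCharacter (Cfsg.Sz F m), ∃ aX : ℕ × ℕ, χ ∈ O → Data hF hm χ aX.1 aX.2 := by
    intro χ
    by_cases h : χ ∈ O
    · obtain ⟨a, X, hd⟩ := exists_data hF hm (mem_filter.1 h).2
      exact ⟨(a, X), fun _ => hd⟩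
    · exact ⟨(0, 0), fun h' => absurd h' h⟩
  choose aX hdata using hchoose
  set a : Cfsg.IrrCharacter (Cfsg.Sz F m) → ℕ := fun χ => (aX χ).1
  have hre : ∀ χ ∈ O, (χ : (Cfsg.Sz F m) → ℂ) u + conj ((χ : (Cfsg.Sz F m) → ℂ) u) = -2 * (a χ : ℂ) := fun χ hχ =>
    (hdata χ hχ).re
  -- the number of homomorphisms
  have hhom : ((univ.erase (1 : Fˣ →* ℂˣ)).card : ℂ) = q - 2 := by
    rw [card_erase_of_mem (mem_univ _), card_univ, ← Nat.card_eq_fintype_card,
      CommGroup.card_monoidHom_of_hasEnoughRootsOfUnity, Nat.card_units, Nat.card_eq_fintype_card,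
      Nat.cast_sub (by omega), Nat.cast_sub (by omega)]
    simp only [q]; push_cast; ring
  have hvu : ∀ f : Fˣ →* ℂˣ, indB hF hm f u = 1 := fun f => indB_U hF hm f hune
  have hst : (indB hF hm 1 - 1) u = 0 := (steinberg_values hF hm).2.1 1 0 hune
  -- the three column relations
  have c1 : ∑ χ ∈ O, (χ : (Cfsg.Sz F m) → ℂ) u * conj ((χ : (Cfsg.Sz F m) → ℂ) u) = 3 / 2 * q := by
    have h := BC87.sum_norm_sq_eq_card_centralizer u
    rw [natCard_centralizer_U hF hm one_ne_zero, ← sum_filter_add_sum_filter_not univ (IsKnown hF hm)] at h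
    have hk := sum_known hF hm fun φ => φ u * conj (φ u)
    simp only [hvu, hst, Pi.one_apply, map_one, map_zero, mul_zero, mul_one, sum_const,
      nsmul_eq_mul, hhom] at hk
    push_cast at h
    linear_combination h - (1 / 2 : ℂ) * hk
  have c2 : ∑ χ ∈ O, ((χ : (Cfsg.Sz F m) → ℂ) u * (χ : (Cfsg.Sz F m) → ℂ) u + conj ((χ : (Cfsg.Sz F m) → ℂ) u) * conj ((χ : (Cfsg.Sz F m) → ℂ) u))
      = -q := by
    have h := CharCore.sum_apply_mul_conj u u⁻¹
    rw [if_neg (not_isConj_inv hF hm)] at h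
    simp only [CharCore.irr_apply_inv, Complex.conj_conj] at h
    have h' := congrArg conj h
    rw [map_sum, map_zero] at h'
    simp only [map_mul] at h'
    have hboth : ∑ χ : Cfsg.IrrCharacter (Cfsg.Sz F m), ((χ : (Cfsg.Sz F m) → ℂ) u * (χ : (Cfsg.Sz F m) → ℂ) u +
        conj ((χ : (Cfsg.Sz F m) → ℂ) u) * conj ((χ : (Cfsg.Sz F m) → ℂ) u)) = 0 := by
      rw [sum_add_distrib, h, h', add_zero]
    rw [← sum_filter_add_sum_filter_not univ (IsKnown hF hm)] at hboth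
    have hk := sum_known hF hm fun φ => φ u * φ u + conj (φ u) * conj (φ u)
    simp only [hvu, hst, Pi.one_apply, map_one, map_zero, mul_zero, mul_one, add_zero, sum_const,
      nsmul_eq_mul, hhom] at hk
    linear_combination hboth - (1 / 2 : ℂ) * hk
  have hnu : ∀ χ : Cfsg.IrrCharacter (Cfsg.Sz F m), ∃ n : ℤ, BC87.nu (χ : (Cfsg.Sz F m) → ℂ) = n ∧
      (n = 0 ∨ ((∀ g, conj ((χ : (Cfsg.Sz F m) → ℂ) g) = (χ : (Cfsg.Sz F m) → ℂ) g) ∧ (n = 1 ∨ n = -1))) := by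
    intro χ
    by_cases h : BC87.nu (χ : (Cfsg.Sz F m) → ℂ) = 0
    · exact ⟨0, by simp [h], Or.inl rfl⟩
    · have hr : ∀ g, conj ((χ : (Cfsg.Sz F m) → ℂ) g) = (χ : (Cfsg.Sz F m) → ℂ) g := fun g =>
        Complex.conj_eq_iff_im.2 (BC87.nu_real h g)
      rcases BC87.nu_eq_one_or (fun g => BC87.nu_real h g) with e | e
      · exact ⟨1, by simp [e], Or.inr ⟨hr, Or.inl rfl⟩⟩
      · exact ⟨-1, by simp [e], Or.inr ⟨hr, Or.inr rfl⟩⟩
  choose n hn hncase using hnu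
  have c3 : ∑ χ ∈ O, (n χ : ℂ) * ((χ : (Cfsg.Sz F m) → ℂ) u + conj ((χ : (Cfsg.Sz F m) → ℂ) u)) = -q := by
    have h := BC87.card_sqrt u
    rw [card_sqrt_U hF hm, Nat.cast_zero] at h
    have h' := congrArg conj h
    rw [map_sum, map_zero] at h'
    simp only [hn, map_mul, map_intCast] at h h'
    have hboth : ∑ χ : Cfsg.IrrCharacter (Cfsg.Sz F m),
        (n χ : ℂ) * ((χ : (Cfsg.Sz F m) → ℂ) u + conj ((χ : (Cfsg.Sz F m) → ℂ) u)) = 0 := by
      simp only [mul_add, sum_add_distrib]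
      rw [← h, ← h', add_zero]
    rw [← sum_filter_add_sum_filter_not univ (IsKnown hF hm)] at hboth
    have hknu : ∀ χ ∈ univ.filter (IsKnown hF hm),
        (n χ : ℂ) * ((χ : (Cfsg.Sz F m) → ℂ) u + conj ((χ : (Cfsg.Sz F m) → ℂ) u)) =
          (χ : (Cfsg.Sz F m) → ℂ) u + conj ((χ : (Cfsg.Sz F m) → ℂ) u) := by
      intro χ hχ
      rcases (mem_filter.1 hχ).2 with e | e | ⟨f, hf, e⟩
      · rw [← hn χ]
        rw [BC87.nu_eq, e]
        simp only [Pi.one_apply, map_one, sum_const, card_univ, nsmul_eq_mul, mul_one,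
          ← Nat.card_eq_fintype_card,
          inv_mul_cancel₀ (Nat.cast_ne_zero (R := ℂ).2 (Nat.card_pos (α := Cfsg.Sz F m)).ne'),
          one_mul]
      · rw [e, hst, map_zero, add_zero, mul_zero]
      · rw [← hn χ, nu_indB hF hm hf e, one_mul]
    rw [sum_congr rfl hknu] at hboth
    have hk := sum_known hF hm fun φ => φ u + conj (φ u)
    simp only [hvu, hst, Pi.one_apply, map_one, map_zero, mul_zero, add_zero, sum_const,
      nsmul_eq_mul, hhom] at hk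
    linear_combination hboth - (1 / 2 : ℂ) * hk
  have hA : ∑ χ ∈ O, ((a χ : ℂ)) ^ 2 = q / 2 := by
    have : ∑ χ ∈ O, 4 * ((a χ : ℂ)) ^ 2 = 2 * q := by
      rw [sum_congr rfl fun χ hχ => show 4 * ((a χ : ℂ)) ^ 2 =
          ((χ : (Cfsg.Sz F m) → ℂ) u * (χ : (Cfsg.Sz F m) → ℂ) u + conj ((χ : (Cfsg.Sz F m) → ℂ) u) * conj ((χ : (Cfsg.Sz F m) → ℂ) u)) +
            2 * ((χ : (Cfsg.Sz F m) → ℂ) u * conj ((χ : (Cfsg.Sz F m) → ℂ) u)) by
        linear_combination (-((χ : (Cfsg.Sz F m) → ℂ) u + conj ((χ : (Cfsg.Sz F m) → ℂ) u)) + 2 * (a χ : ℂ)) * hre χ hχ,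
        sum_add_distrib, c2, ← mul_sum, c1]
      ring
    rw [← mul_sum] at this
    linear_combination (1 / 4 : ℂ) * this
  have hz : ∑ χ ∈ O, ((a χ : ℤ) * ((a χ : ℤ) - n χ)) = 0 := by
    rw [← @Int.cast_inj ℂ]
    push_cast
    have h2 : ∑ χ ∈ O, (n χ : ℂ) * (-2 * (a χ : ℂ)) = -q :=
      (sum_congr rfl fun χ hχ => by rw [hre χ hχ]).trans c3
    rw [sum_congr rfl fun χ _ => show (a χ : ℂ) * ((a χ : ℂ) - n χ) =
      (a χ : ℂ) ^ 2 + (1 / 2) * ((n χ : ℂ) * (-2 * (a χ : ℂ))) by ring, sum_add_distrib, hA,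
      ← mul_sum, h2]
    ring
  have hnonneg : ∀ χ ∈ O, 0 ≤ (a χ : ℤ) * ((a χ : ℤ) - n χ) := fun χ _ => by
    rcases Nat.eq_zero_or_pos (a χ) with h | h
    · simp [h]
    · refine mul_nonneg (by positivity) ?_
      rcases hncase χ with e | ⟨-, e | e⟩ <;> omega
  have hall : ∀ χ ∈ O, a χ = 0 ∨ (a χ = 1 ∧ ∀ g, conj ((χ : (Cfsg.Sz F m) → ℂ) g) = (χ : (Cfsg.Sz F m) → ℂ) g) := by
    intro χ hχ
    rcases mul_eq_zero.1 ((sum_eq_zero_iff_of_nonneg hnonneg).1 hz χ hχ) with h | h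
    · exact Or.inl (by exact_mod_cast h)
    · rcases hncase χ with e | ⟨hr, e | e⟩
      · exact Or.inl (by omega)
      · exact Or.inr ⟨by omega, hr⟩
      · omega
  set R := O.filter fun χ => a χ = 1 with hR
  set W := O.filter fun χ => ¬ a χ = 1 with hW
  have hW0 : ∀ χ ∈ W, a χ = 0 := fun χ hχ =>
    ((hall χ (mem_filter.1 hχ).1).resolve_right fun h => (mem_filter.1 hχ).2 h.1)
  have hRcard : 2 * R.card = Fintype.card F := by
    have h : ∑ χ ∈ O, ((a χ : ℂ)) ^ 2 = (R.card : ℂ) := by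
      rw [hR, card_filter, Nat.cast_sum]
      refine sum_congr rfl fun χ hχ => ?_
      rcases hall χ hχ with e | ⟨e, -⟩ <;> simp [e]
    rw [hA] at h
    have : ((2 * R.card : ℕ) : ℂ) = q := by push_cast; rw [← h]; ring
    exact (Nat.cast_inj (R := ℂ)).1 this
  have hKcard : 2 * (univ.filter (IsKnown hF hm)).card = Fintype.card F + 2 := by
    have hk := sum_known hF hm fun _ => (1 : ℂ)
    simp only [sum_const, nsmul_eq_mul, mul_one, hhom] at hk
    have : ((2 * (univ.filter (IsKnown hF hm)).card : ℕ) : ℂ) = ((Fintype.card F + 2 : ℕ) : ℂ) := by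
      push_cast; rw [hk]; ring
    exact_mod_cast this
  have hWcard : W.card = 2 := by
    have h1 := card_filter_add_card_filter_not (s := (univ : Finset (Cfsg.IrrCharacter (Cfsg.Sz F m))))
      (IsKnown hF hm)
    have h2 := card_filter_add_card_filter_not (s := O) (fun χ => a χ = 1)
    rw [← hR, ← hW] at h2
    rw [← hO, card_univ, ← Nat.card_eq_fintype_card, CharCore.card_irr,
      natCard_conjClasses hF hm] at h1
    omega
  have hsum : ∑ χ ∈ W, (χ : (Cfsg.Sz F m) → ℂ) u * conj ((χ : (Cfsg.Sz F m) → ℂ) u) = q := by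
    have hsplit : ∑ χ ∈ R, (χ : (Cfsg.Sz F m) → ℂ) u * conj ((χ : (Cfsg.Sz F m) → ℂ) u) +
        ∑ χ ∈ W, (χ : (Cfsg.Sz F m) → ℂ) u * conj ((χ : (Cfsg.Sz F m) → ℂ) u) = 3 / 2 * q :=
      (sum_filter_add_sum_filter_not O (fun χ => a χ = 1) _).trans c1
    rw [sum_congr rfl (s₂ := R) fun χ hχ => show _ = (1 : ℂ) by
      obtain ⟨hO', h1⟩ := mem_filter.1 hχ
      have hr := ((hall χ hO').resolve_left (by omega)).2 u
      have := hre χ hO'
      rw [hr, h1, Nat.cast_one] at this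
      rw [hr, show (χ : (Cfsg.Sz F m) → ℂ) u = -1 by linear_combination (1 / 2 : ℂ) * this]
      norm_num, sum_const, nsmul_eq_mul, mul_one] at hsplit
    have : ((2 * R.card : ℕ) : ℂ) = q := by rw [hRcard]
    push_cast at this
    linear_combination hsplit - (1 / 2 : ℂ) * this
  obtain ⟨v, hvW, hv⟩ : ∃ v ∈ W, (v : (Cfsg.Sz F m) → ℂ) u ≠ 0 := by
    by_contra h
    push Not at h
    rw [sum_eq_zero fun χ hχ => by rw [h χ hχ, zero_mul]] at hsum
    exact (Nat.cast_ne_zero.2 (show Fintype.card F ≠ 0 by omega)) hsum.symm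
  have hvO := (mem_filter.1 hvW).1
  set v' : Cfsg.IrrCharacter (Cfsg.Sz F m) := ⟨fun g => conj ((v : (Cfsg.Sz F m) → ℂ) g), CharCore.isIrrCharacter_star v.2⟩
  have hne : v ≠ v' := fun e => hv (by
    have := hre v hvO
    rw [hW0 v hvW, Nat.cast_zero, mul_zero] at this
    have e' : conj ((v : (Cfsg.Sz F m) → ℂ) u) = (v : (Cfsg.Sz F m) → ℂ) u := (congrFun (congrArg Subtype.val e) u).symm
    rw [e'] at this
    linear_combination (1 / 2 : ℂ) * this)
  have hv'O : v' ∈ O := mem_filter.2 ⟨mem_univ _, fun hk => hne (Subtype.ext (funext fun g => by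
    have h := known_real hF hm hk g
    simpa [v'] using h))⟩
  have hv'W : v' ∈ W := mem_filter.2 ⟨hv'O, fun h1 => by
    have e1 := hre v' hv'O
    have e2 := hre v hvO
    rw [h1] at e1
    rw [hW0 v hvW] at e2
    simp only [v', Complex.conj_conj] at e1
    rw [add_comm, e2] at e1
    norm_num at e1⟩
  have hWeq : W = {v, v'} := (eq_of_subset_of_card_le (by
      simp [insert_subset_iff, hvW, hv'W]) (by rw [hWcard, card_pair hne])).symm
  have hXv : (aX v').2 = (aX v).2 := by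
    have e1 := (hdata v' hv'O).deg
    have e2 := congrArg conj (hdata v hvO).deg
    simp only [map_mul, map_sub, map_one, map_natCast] at e2
    change conj ((v : (Cfsg.Sz F m) → ℂ) 1) = _ at e1
    rw [e2] at e1
    have hq1 : q - 1 ≠ 0 := by
      simp only [q, sub_ne_zero]; exact_mod_cast (show Fintype.card F ≠ 1 by omega)
    exact_mod_cast (mul_left_cancel₀ hq1 e1).symm
  refine ⟨R, v, v', (aX v).2, hRcard, fun h => (mem_filter.1 hvW).2 (mem_filter.1 h).2,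
    fun h => (mem_filter.1 hv'W).2 (mem_filter.1 h).2, hne, fun χ => ⟨fun h => ?_, fun h => ?_⟩,
    fun χ hχ => ?_, ?_, ?_, ?_⟩
  · have hχO : χ ∈ O := mem_filter.2 ⟨mem_univ _, h⟩
    by_cases h1 : a χ = 1
    · exact Or.inl (mem_filter.2 ⟨hχO, h1⟩)
    · have : χ ∈ W := mem_filter.2 ⟨hχO, h1⟩
      rw [hWeq, mem_insert, mem_singleton] at this
      exact Or.inr this
  · rcases h with h | rfl | rfl
    exacts [(mem_filter.1 (mem_filter.1 h).1).2, (mem_filter.1 hvO).2, (mem_filter.1 hv'O).2]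
  · obtain ⟨hχO, h1⟩ := mem_filter.1 hχ
    exact ⟨(aX χ).2, h1 ▸ hdata χ hχO⟩
  · exact (hW0 v hvW) ▸ hdata v hvO
  · have := hdata v' hv'O
    rw [show (aX v').1 = 0 from hW0 v' hv'W, hXv] at this
    exact this
  · rw [hWeq, sum_pair hne] at hsum
    have e : (v' : (Cfsg.Sz F m) → ℂ) u * conj ((v' : (Cfsg.Sz F m) → ℂ) u) = (v : (Cfsg.Sz F m) → ℂ) u * conj ((v : (Cfsg.Sz F m) → ℂ) u) := by
      simp only [v', Complex.conj_conj]; ring
    rw [e] at hsum
    linear_combination hsum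

end Cfsg.Agent.BC86.Suz
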