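import Cfsg.Agent.BC86.Suz.Elements
import Cfsg.Agent.Lib.CharCore.Linear
import Cfsg.Agent.Lib.CharClifford.Central
import Mathlib.Analysis.Complex.Polynomial.Basic
import Mathlib.RingTheory.RootsOfUnity.AlgebraicallyClosed
import Mathlib.GroupTheory.Abelianization.Finite

/-!
# The Sylow 2-subgroup of the Suzuki group: classes and degrees, and the class number of the group
-/

set_option autoImplicit false

namespace Cfsg.Agent.BC86.Suz

open Finset Cfsg.Agent.Suzuki

variable {F : Type*} [Field F] [Fintype F] {m : ℕ} (hF : Fintype.card F = 2 ^ (2 * m + 1))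
include hF

theorem isConj_U_zero {b : F} (hb : b ≠ 0) : IsConj (U hF (0 : F) 1) (U hF 0 b) := by
  classical
  let κ : Fˣ → Fˣ := fun k => Units.mk0 ((k : F) * sig m (k : F))
    (mul_ne_zero k.ne_zero (sig_ne_zero k.ne_zero))
  have hκ : Function.Injective κ := fun k l h => by
    have h' : (k : F) * sig m (k : F) = (l : F) * sig m (l : F) := congrArg Units.val h
    have hl := l.ne_zero
    have hsl : sig m (l : F) ≠ 0 := sig_ne_zero hl
    refine Units.ext ((div_eq_one_iff_eq hl).1
      (eq_one_of_mul_sig hF (div_ne_zero k.ne_zero hl) ?_))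
    rw [div_eq_mul_inv, sig_mul, sig_inv]
    field_simp
    linear_combination h'
  obtain ⟨k, hk⟩ := Finite.injective_iff_surjective.1 hκ (Units.mk0 b hb)
  have hk' : (k : F) * sig m (k : F) = b := congrArg Units.val hk
  refine isConj_iff.2 ⟨T hF k, ?_⟩
  rw [T_conj_U, mul_zero, mul_one, hk']

theorem one_ne_sig_add (c : F) : sig m c + c ≠ 1 := by
  intro h
  have h2 := congrArg (sig m) h
  rw [sig_add hF, sig_sig hF, sig_one] at h2
  have h3 : c * (c + 1) = 0 := by
    linear_combination h2 + h - (sig m c + 0) * two_eq_zero hF + two_eq_zero hF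
  rcases mul_eq_zero.1 h3 with h4 | h4
  · rw [h4, sig_zero, add_zero] at h
    exact one_ne_zero h.symm
  · have : c = 1 := eq_of_add_eq_zero hF h4
    rw [this, sig_one, add_self hF] at h
    exact one_ne_zero h.symm

theorem U_one_zero_inv : (U hF (1 : F) 0)⁻¹ = U hF 1 1 := by
  rw [U_inv]; simp [sig_one]

/-- The elements outside the centre form two classes, exchanged by inversion. -/
theorem isConj_U_or {a : F} (ha : a ≠ 0) (b : F) :
    IsConj (U hF (1 : F) 0) (U hF a b) ∨ IsConj (U hF (1 : F) 0)⁻¹ (U hF a b) := by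
  classical
  let L : F →+ F := AddMonoidHom.mk' (fun c => sig m c + c) fun x y => by
    rw [sig_add hF]; ring
  have hker : Nat.card L.ker = 2 := by
    have : (L.ker : Set F) = {0, 1} := by
      ext c
      simp only [SetLike.mem_coe, AddMonoidHom.mem_ker, L, AddMonoidHom.mk'_apply,
        Set.mem_insert_iff, Set.mem_singleton_iff]
      exact ⟨fun h => eq_zero_or_one_of_sig_eq hF (eq_of_add_eq_zero hF h),
        by rintro (rfl | rfl) <;> simp [sig_zero, sig_one, add_self hF]⟩
    rw [show Nat.card L.ker = Nat.card (({0, 1} : Set F) : Type _) from by rw [← this]; rfl,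
      Nat.card_coe_set_eq, Set.ncard_pair zero_ne_one]
  have hidx : L.range.index = 2 := by
    have h1 := L.range.index_mul_card
    have h2 := L.ker.index_mul_card
    rw [AddSubgroup.index_ker, hker] at h2
    rw [← h2, mul_comm (Nat.card L.range)] at h1
    exact Nat.eq_of_mul_eq_mul_right Nat.card_pos h1
  have hone : (1 : F) ∉ L.range := by
    rintro ⟨c, hc⟩
    exact one_ne_sig_add hF c hc
  set k : Fˣ := Units.mk0 a ha
  set b' : F := b / ((k : F) * sig m (k : F))
  have hconj : ∀ c e, IsConj (U hF (1 : F) e) (U hF 1 (e + (sig m c + c))) := fun c e => by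
    refine isConj_iff.2 ⟨U hF c 0, ?_⟩
    rw [U_inv, U_mul, U_mul]
    congr 1
    · linear_combination c * two_eq_zero hF
    · rw [sig_add hF, sig_one]; linear_combination (sig m c * c) * two_eq_zero hF
  have hT : IsConj (U hF (1 : F) b') (U hF a b) := by
    refine isConj_iff.2 ⟨T hF k, ?_⟩
    have hk : (k : F) * sig m (k : F) ≠ 0 := mul_ne_zero k.ne_zero (sig_ne_zero k.ne_zero)
    rw [T_conj_U, mul_one, mul_div_cancel₀ _ hk]
    rfl
  have hrep : ∃ c, b' = sig m c + c ∨ b' = 1 + (sig m c + c) := by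
    by_cases hb : b' ∈ L.range
    · obtain ⟨c, hc⟩ := hb
      exact ⟨c, Or.inl hc.symm⟩
    · obtain ⟨c, hc⟩ := (AddSubgroup.add_mem_iff_of_index_two hidx (a := b') (b := 1)).2
        (iff_of_false hb hone)
      refine ⟨c, Or.inr ?_⟩
      change sig m c + c = b' + 1 at hc
      linear_combination -hc - two_eq_zero hF
  obtain ⟨c, hc | hc⟩ := hrep
  · left
    have := hconj c 0
    rw [zero_add, ← hc] at this
    exact this.trans hT
  · right
    rw [U_one_zero_inv]
    have := hconj c 1
    rw [← hc] at this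
    exact this.trans hT

omit [Fintype F] hF in
theorem natCard_centralizer_of_isConj {G : Type*} [Group G] {x y : G} (h : IsConj x y) :
    Nat.card (Subgroup.centralizer ({y} : Set G)) = Nat.card (Subgroup.centralizer ({x} : Set G)) := by
  obtain ⟨c, rfl⟩ := isConj_iff.1 h
  rw [Suzuki.centralizer_conj]
  exact (Nat.card_congr (Subgroup.equivMapOfInjective _ (MulAut.conj c).toMonoidHom
    (MulAut.conj c).injective).toEquiv).symm

omit [Fintype F] hF in
theorem natCard_centralizer_inv {G : Type*} [Group G] (x : G) :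
    Nat.card (Subgroup.centralizer ({x⁻¹} : Set G)) = Nat.card (Subgroup.centralizer ({x} : Set G)) := by
  congr 2
  ext h
  congr! 1
  ext y
  simp only [Subgroup.mem_centralizer_singleton_iff]
  exact (Commute.inv_right_iff (a := y) (b := x))

theorem natCard_centralizer_U (hm : 1 ≤ m) {a b : F} (ha : a ≠ 0) :
    Nat.card (Subgroup.centralizer ({U hF a b} : Set (Cfsg.Sz F m))) = 2 * Fintype.card F := by
  classical
  have h10 : U hF (1 : F) 0 ≠ 1 := fun h => by
    rw [← U_zero hF] at h; exact one_ne_zero (U_inj hF h).1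
  have hmain : Nat.card (Subgroup.centralizer ({U hF (1 : F) 0} : Set (Cfsg.Sz F m))) =
      2 * Fintype.card F := by
    have hset : ∀ g : Cfsg.Sz F m, g ∈ Subgroup.centralizer ({U hF (1 : F) 0} : Set (Cfsg.Sz F m)) ↔
        ∃ c d, (c = 0 ∨ c = 1) ∧ g = U hF c d := by
      intro g
      constructor
      · intro hg
        obtain ⟨c, d, rfl⟩ := centralizer_U_le hF hm h10 hg
        rw [Subgroup.mem_centralizer_singleton_iff, U_mul, U_mul] at hg
        have := (U_inj hF hg).2
        refine ⟨c, d, eq_zero_or_one_of_sig_eq hF ?_, rfl⟩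
        rw [sig_one] at this
        linear_combination this
      · rintro ⟨c, d, hc, rfl⟩
        rw [Subgroup.mem_centralizer_singleton_iff, U_mul, U_mul]
        congr 1
        · rw [add_comm]
        · rcases hc with rfl | rfl <;> simp [sig_zero, sig_one, add_comm]
    let e : ({0, 1} : Set F) × F → Subgroup.centralizer ({U hF (1 : F) 0} : Set (Cfsg.Sz F m)) :=
      fun p => ⟨U hF p.1.1 p.2, (hset _).2 ⟨_, _, p.1.2, rfl⟩⟩
    have he : Function.Bijective e := by
      constructor
      · rintro ⟨⟨c, hc⟩, d⟩ ⟨⟨c', hc'⟩, d'⟩ h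
        obtain ⟨rfl, rfl⟩ := U_inj hF (congrArg Subtype.val h)
        rfl
      · rintro ⟨g, hg⟩
        obtain ⟨c, d, hc, rfl⟩ := (hset g).1 hg
        exact ⟨(⟨c, hc⟩, d), rfl⟩
    rw [← Nat.card_eq_of_bijective e he, Nat.card_prod, Nat.card_coe_set_eq,
      Set.ncard_pair zero_ne_one, Nat.card_eq_fintype_card]
  rcases isConj_U_or hF ha b with h | h
  · rw [natCard_centralizer_of_isConj h, hmain]
  · rw [natCard_centralizer_of_isConj h, natCard_centralizer_inv, hmain]

theorem natCard_centralizer_U_zero (hm : 1 ≤ m) {b : F} (hb : b ≠ 0) :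
    Nat.card (Subgroup.centralizer ({U hF 0 b} : Set (Cfsg.Sz F m))) = Fintype.card F ^ 2 := by
  have h1 : U hF (0 : F) b ≠ 1 := fun h => by
    rw [← U_zero hF] at h; exact hb (U_inj hF h).2
  rw [show Subgroup.centralizer ({U hF 0 b} : Set (Cfsg.Sz F m)) = USub hF from
    le_antisymm (centralizer_U_le hF hm h1) ?_, card_USub, hF]
  rintro _ ⟨c, d, rfl⟩
  rw [Subgroup.mem_centralizer_singleton_iff, U_mul, U_mul]
  congr 1
  · rw [add_comm]
  · rw [sig_zero]; ring

theorem natCard_centralizer_T (hm : 1 ≤ m) {k : Fˣ} (hk : k ≠ 1) :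
    Nat.card (Subgroup.centralizer ({T hF k} : Set (Cfsg.Sz F m))) = Fintype.card F - 1 := by
  rw [show Subgroup.centralizer ({T hF k} : Set (Cfsg.Sz F m)) = (THom hF).range from
    le_antisymm (centralizer_T_le hF hm hk) ?_, card_range_T]
  rintro _ ⟨l, rfl⟩
  rw [Subgroup.mem_centralizer_singleton_iff]
  change T hF l * T hF k = T hF k * T hF l
  rw [← T_mul, ← T_mul, mul_comm]

/-- The Suzuki group has `q + 3` conjugacy classes. -/
theorem natCard_conjClasses (hm : 1 ≤ m) :
    Nat.card (ConjClasses (Cfsg.Sz F m)) = Fintype.card F + 3 := by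
  classical
  haveI : Fintype (Cfsg.Sz F m) := Fintype.ofFinite _
  haveI : Fintype Fˣ := Fintype.ofFinite _
  set G := Cfsg.Sz F m
  obtain ⟨A₁, A₂, hA₁, hA₂, h1, h2, hfpf⟩ := exists_tori hF hm
  haveI : Fintype A₁ := Fintype.ofFinite _
  haveI : Fintype A₂ := Fintype.ofFinite _
  set f : G → ℂ := fun g => (Nat.card (Subgroup.centralizer ({g} : Set G)) : ℂ)
  have hf : Cfsg.IsClassFunction G f := fun g h => by
    simp only [f]
    rw [natCard_centralizer_of_isConj (isConj_iff.2 ⟨h, rfl⟩ : IsConj g (h * g * h⁻¹))]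
  have hsum : ∑ g, f g = (Nat.card G : ℂ) * Nat.card (ConjClasses G) := by
    have := Cfsg.Agent.CharInd.sum_card_centralizer_eq (G := G) (fun _ => True)
    simp only [if_true] at this
    rw [this, Nat.card_congr (Equiv.subtypeUnivEquiv fun _ => trivial)]
  have hmain := four_sum_classFun hF hm hA₁ hA₂ h1 h2 hfpf hf
  simp only at hmain
  obtain ⟨h8, -⟩ := q_facts hF hm
  have hle : 2 ^ (m + 1) ≤ Fintype.card F := by
    rw [hF]; exact Nat.pow_le_pow_right (by norm_num) (by omega)
  have hf1 : f 1 = (Nat.card G : ℂ) := by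
    simp only [f]
    rw [show Subgroup.centralizer ({1} : Set G) = ⊤ by simp [Subgroup.centralizer_eq_top_iff_subset],
      Subgroup.card_top]
  set q : ℂ := (Fintype.card F : ℂ) with hq
  have hU : (∑ a : F, ∑ b : F, f (U hF a b)) - f 1 = 3 * q ^ 2 * (q - 1) := by
    have ha : ∀ a : F, a ≠ 0 → (∑ b : F, f (U hF a b)) = 2 * q ^ 2 := fun a ha => by
      rw [Finset.sum_congr rfl fun b _ => show f (U hF a b) = 2 * q by
        simp only [f, q]; rw [natCard_centralizer_U hF hm ha]; push_cast; rfl]
      simp [q]; ring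
    have hb : (∑ b : F, f (U hF 0 b)) = f 1 + (q - 1) * q ^ 2 := by
      rw [← Finset.add_sum_erase _ _ (mem_univ (0 : F)), U_zero,
        Finset.sum_congr rfl fun b hb => show f (U hF 0 b) = q ^ 2 by
          simp only [f, q]; rw [natCard_centralizer_U_zero hF hm (ne_of_mem_erase hb)]; push_cast; rfl,
        Finset.sum_const, card_erase_of_mem (mem_univ _), Finset.card_univ, nsmul_eq_mul,
        Nat.cast_sub (by omega)]
      simp [q]
    rw [← Finset.add_sum_erase _ _ (mem_univ (0 : F)), hb,
      Finset.sum_congr rfl fun a ha' => ha a (ne_of_mem_erase ha'), Finset.sum_const,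
      card_erase_of_mem (mem_univ _), Finset.card_univ, nsmul_eq_mul, Nat.cast_sub (by omega)]
    simp only [q]; push_cast; ring
  have hT : (∑ k : Fˣ, f (T hF k)) - f 1 = (q - 2) * (q - 1) := by
    rw [← Finset.add_sum_erase _ _ (mem_univ (1 : Fˣ)), T_one, add_sub_cancel_left,
      Finset.sum_congr rfl fun k hk => show f (T hF k) = q - 1 by
        simp only [f, q]
        rw [natCard_centralizer_T hF hm (ne_of_mem_erase hk), Nat.cast_sub (by omega)]; simp,
      Finset.sum_const, card_erase_of_mem (mem_univ _), Finset.card_univ, ← Nat.card_eq_fintype_card,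
      Nat.card_units, Nat.card_eq_fintype_card,
      nsmul_eq_mul, Nat.cast_sub (by omega), Nat.cast_sub (by omega)]
    simp only [q]; push_cast; ring
  have hA : ∀ (A : Subgroup G) [Fintype A], IsTorus A →
      (∑ u : A, f u) - f 1 = ((Nat.card A : ℂ) - 1) * Nat.card A := fun A _ hA => by
    rw [← Finset.add_sum_erase _ _ (mem_univ (1 : A)), OneMemClass.coe_one, add_sub_cancel_left,
      Finset.sum_congr rfl (g := fun _ => (Nat.card A : ℂ)) fun u hu => by
        show (Nat.card (Subgroup.centralizer {(u : G)}) : ℂ) = _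
        rw [hA.cent u u.2 fun e => ne_of_mem_erase hu (Subtype.ext e)],
      Finset.sum_const, card_erase_of_mem (mem_univ _), Finset.card_univ, nsmul_eq_mul,
      Nat.card_eq_fintype_card, Nat.cast_sub Fintype.card_pos]
    simp
  have hG : (Nat.card G : ℂ) = q ^ 2 * (q ^ 2 + 1) * (q - 1) := by
    rw [show Nat.card G = _ from card_Sz hF hm, ← hF]; push_cast [Nat.cast_sub (show 1 ≤ Fintype.card F by omega)]; rfl
  have hss : ((2 : ℂ) ^ (m + 1)) * 2 ^ (m + 1) = 2 * q := by
    simp only [q]
    rw [hF]; push_cast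
    rw [← pow_add, ← pow_succ']; congr 1; omega
  have ha₁ : (Nat.card A₁ : ℂ) = q + 2 ^ (m + 1) + 1 := by rw [h1]; push_cast; rfl
  have ha₂ : (Nat.card A₂ : ℂ) = q - 2 ^ (m + 1) + 1 := by rw [h2]; push_cast [Nat.cast_sub hle]; rfl
  rw [hsum, hU, hT, hA A₁ hA₁, hA A₂ hA₂, hf1, ha₁, ha₂, hG] at hmain
  have hne : q ^ 2 * (q ^ 2 + 1) * (q - 1) ≠ 0 := by
    rw [← hG]; exact Nat.cast_ne_zero.2 Nat.card_pos.ne'
  have hk : (Nat.card (ConjClasses G) : ℂ) = q + 3 := by
    apply mul_left_cancel₀ hne
    linear_combination (1 / 4 : ℂ) * hmain - (q ^ 3 * (q - 1) / 2) * hss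
  simp only [q] at hk
  exact_mod_cast hk

/-- The Sylow 2-subgroup has irreducible characters of degree `1` and `2 ^ m` only. -/
theorem irr_USub_degree (hm : 1 ≤ m) (φ : Cfsg.IrrCharacter (USub hF)) :
    (φ : USub hF → ℂ) 1 = 1 ∨ (φ : USub hF → ℂ) 1 = 2 ^ m := by
  classical
  haveI : Fintype (USub hF) := Fintype.ofFinite _
  set q := Fintype.card F with hqdef
  obtain ⟨h8, -⟩ := q_facts hF hm
  have hcardU : Nat.card (USub hF) = q ^ 2 := by rw [card_USub, ← hF]
  -- class number
  have hcent : ∀ u : USub hF, Nat.card (Subgroup.centralizer ({u} : Set (USub hF))) =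
      if u = 1 then q ^ 2 else Nat.card (Subgroup.centralizer ({(u : Cfsg.Sz F m)} : Set (Cfsg.Sz F m))) := by
    intro u
    split_ifs with hu
    · subst hu
      rw [← hcardU, show Subgroup.centralizer ({1} : Set (USub hF)) = ⊤ by
        simp [Subgroup.centralizer_eq_top_iff_subset], Subgroup.card_top]
    · obtain ⟨a, b, hab⟩ := u.2
      have hle : Subgroup.centralizer ({(u : Cfsg.Sz F m)} : Set (Cfsg.Sz F m)) ≤ USub hF := by
        rw [hab]; exact centralizer_U_le hF hm fun e => hu (Subtype.ext (hab.trans e))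
      rw [← Nat.card_congr (Subgroup.subgroupOfEquivOfLe hle).toEquiv]
      congr 2
      ext x
      congr! 1
      ext y
      simp [Subgroup.mem_centralizer_singleton_iff, Subgroup.mem_subgroupOf, Subtype.ext_iff]
  have hk : Nat.card (Cfsg.IrrCharacter (USub hF)) = 3 * q - 2 := by
    rw [CharCore.card_irr]
    have h := Cfsg.Agent.CharInd.sum_card_centralizer_eq (G := USub hF) (fun _ => True)
    simp only [if_true] at h
    rw [Nat.card_congr (Equiv.subtypeUnivEquiv fun _ => trivial)] at h
    rw [← Nat.cast_sum, ← Nat.cast_mul, Nat.cast_inj, hcardU] at h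
    have hsum : ∑ u : USub hF, Nat.card (Subgroup.centralizer ({u} : Set (USub hF)))
        = q ^ 2 * (3 * q - 2) := by
      rw [show ∑ u : USub hF, Nat.card (Subgroup.centralizer ({u} : Set (USub hF))) =
          ∑ a : F, ∑ b : F, (if a = 0 then q ^ 2 else 2 * q) from ?_]
      · rw [← Finset.add_sum_erase _ _ (mem_univ (0 : F)),
          Finset.sum_congr rfl (s₂ := univ.erase (0 : F)) fun a ha => show
            (∑ b : F, (if a = 0 then q ^ 2 else 2 * q)) = q * (2 * q) by
            simp [ne_of_mem_erase ha, q]]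
        simp only [if_true, Finset.sum_const, Finset.card_univ, card_erase_of_mem (mem_univ _),
          smul_eq_mul, ← hqdef]
        zify [show 1 ≤ q by omega, show 2 ≤ 3 * q by omega]
        ring
      · rw [← Fintype.sum_prod_type']
        refine (Fintype.sum_equiv (USubEquiv hF) _ _ fun p => ?_).symm
        rw [hcent]
        rcases p with ⟨a, b⟩
        change _ = if (⟨U hF a b, _⟩ : USub hF) = 1 then _ else _
        split_ifs with h1 h2 h3
        · rfl
        · subst h1
          exact (natCard_centralizer_U_zero hF hm fun hb => h2 (Subtype.ext (by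
            change U hF 0 b = 1; rw [show b = 0 from hb, U_zero]))).symm
        · have := congrArg Subtype.val h3
          change U hF a b = 1 at this
          rw [← U_zero hF] at this
          exact absurd (U_inj hF this).1 h1
        · exact (natCard_centralizer_U hF hm h1).symm
    rw [hsum] at h
    exact Nat.eq_of_mul_eq_mul_left (by positivity) h.symm
  have hlin : Nat.card {χ : Cfsg.IrrCharacter (USub hF) // (χ : USub hF → ℂ) 1 = 1} = q := by
    rw [CharCore.card_linearCharacters, commutator_USub hF hm]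
    have hle : ZSub hF ≤ USub hF := fun _ ⟨b, hb⟩ => ⟨0, b, hb⟩
    have h := ((ZSub hF).subgroupOf (USub hF)).index_mul_card
    rw [Nat.card_congr (Subgroup.subgroupOfEquivOfLe hle).toEquiv, card_ZSub, ← hF, hcardU,
      sq] at h
    exact Nat.eq_of_mul_eq_mul_right (by omega) h
  choose d hd0 hdd hd using fun χ : Cfsg.IrrCharacter (USub hF) =>
    CharClifford.exists_degree_dvd_index_center χ.2
  -- each square is at most the index of the centre
  have hidx : (Subgroup.center (USub hF)).index = q := by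
    rw [center_USub hF hm]
    have hle : ZSub hF ≤ USub hF := fun _ ⟨b, hb⟩ => ⟨0, b, hb⟩
    have h := ((ZSub hF).subgroupOf (USub hF)).index_mul_card
    rw [Nat.card_congr (Subgroup.subgroupOfEquivOfLe hle).toEquiv, card_ZSub, ← hF, hcardU,
      sq] at h
    exact Nat.eq_of_mul_eq_mul_right (by omega) h
  have hsq : ∀ χ : Cfsg.IrrCharacter (USub hF), d χ ^ 2 ≤ q := by
    intro χ
    obtain ⟨n, ρ, hρ, hρχ⟩ := χ.2
    have hn : ∀ z ∈ Subgroup.center (USub hF),
        (χ : USub hF → ℂ) z * (starRingEnd ℂ) ((χ : USub hF → ℂ) z) = (d χ : ℂ) ^ 2 := by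
      intro z hz
      obtain ⟨c, hc⟩ := CharClifford.exists_scalar_of_mem_center ρ hz
      obtain ⟨c', hc'⟩ := CharClifford.exists_scalar_of_mem_center ρ (inv_mem hz)
      have hdim : (Module.finrank ℂ (Fin n → ℂ) : ℂ) = d χ := by
        rw [← hd χ, ← hρχ, Representation.char_one]
      have hone : c * c' = 1 := by
        have h := congrArg (LinearMap.trace ℂ (Fin n → ℂ)) (map_mul ρ z z⁻¹)
        rw [mul_inv_cancel, map_one, LinearMap.trace_one, hc, hc', smul_mul_smul_comm, one_mul,
          map_smul, LinearMap.trace_one, smul_eq_mul] at h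
        have hne : (Module.finrank ℂ (Fin n → ℂ) : ℂ) ≠ 0 := by
          rw [hdim]; exact_mod_cast (hd0 χ).ne'
        exact (mul_eq_right₀ hne).1 h.symm
      rw [← CharCore.irr_apply_inv, ← hρχ]
      simp only [Representation.character]
      rw [CharClifford.scalar_eq_of_trace hc, CharClifford.scalar_eq_of_trace hc', hdim]
      linear_combination (d χ : ℂ) ^ 2 * hone
    have h := CharCore.classInner_irr_self χ
    rw [CharCore.classInner_def, inv_mul_eq_one₀ (Nat.cast_ne_zero.2 Nat.card_pos.ne')] at h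
    have hre := congrArg Complex.re h
    rw [Complex.natCast_re, Complex.re_sum, hcardU] at hre
    have hle : ∑ z ∈ univ.filter (· ∈ Subgroup.center (USub hF)),
        ((χ : USub hF → ℂ) z * (starRingEnd ℂ) ((χ : USub hF → ℂ) z)).re ≤ ((q ^ 2 : ℕ) : ℝ) := by
      rw [hre]
      exact sum_le_sum_of_subset_of_nonneg (filter_subset _ _) fun u _ _ => by
        rw [Complex.mul_conj]; exact_mod_cast Complex.normSq_nonneg _
    rw [sum_congr rfl fun z hz => by rw [hn z (mem_filter.1 hz).2], sum_const,
      ← Fintype.card_subtype, ← Nat.card_eq_fintype_card] at hle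
    have hcz : Nat.card {x : USub hF // x ∈ Subgroup.center (USub hF)} = q := by
      have h := (Subgroup.center (USub hF)).index_mul_card
      rw [hidx, hcardU, sq] at h
      exact Nat.eq_of_mul_eq_mul_left (by omega) h
    rw [hcz, nsmul_eq_mul, ← Nat.cast_pow, Complex.natCast_re, ← Nat.cast_mul, Nat.cast_le, sq q]
      at hle
    exact Nat.le_of_mul_le_mul_left hle (by omega)
  have hle2 : ∀ χ, d χ ≤ 2 ^ m := by
    intro χ
    have hdq : d χ ∣ 2 ^ (2 * m + 1) := by rw [← hF, ← hidx]; exact hdd χ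
    obtain ⟨i, hi, hi'⟩ := (Nat.dvd_prime_pow Nat.prime_two).1 hdq
    have := hsq χ
    rw [hi', show q = 2 ^ (2 * m + 1) from hF, ← pow_mul, Nat.pow_le_pow_iff_right (by norm_num)] at this
    rw [hi']
    exact Nat.pow_le_pow_right (by norm_num) (by omega)
  have hM : (2 ^ m) ^ 2 * 2 = q := by rw [show q = 2 ^ (2 * m + 1) from hF, ← pow_mul, ← pow_succ]; congr 1; ring
  have htot : ∑ χ : Cfsg.IrrCharacter (USub hF), d χ ^ 2 = q ^ 2 := by
    have h : (∑ χ : Cfsg.IrrCharacter (USub hF), ((d χ : ℂ)) ^ 2) = (Nat.card (USub hF) : ℂ) := by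
      rw [← CharCore.sum_degree_sq]
      exact sum_congr rfl fun χ _ => by rw [hd χ]
    rw [hcardU] at h
    exact_mod_cast h
  set L := univ.filter fun χ : Cfsg.IrrCharacter (USub hF) => (χ : USub hF → ℂ) 1 = 1
  have hL : L.card = q := by
    rw [← hlin, Nat.card_eq_fintype_card, Fintype.card_subtype]
  have hpt : ∀ χ : Cfsg.IrrCharacter (USub hF),
      d χ ^ 2 ≤ if χ ∈ L then 1 else (2 ^ m) ^ 2 := fun χ => by
    split_ifs with h
    · have h' : ((d χ : ℕ) : ℂ) = 1 := by rw [← hd χ]; exact (mem_filter.1 h).2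
      rw [Nat.cast_eq_one.1 h']; norm_num
    · exact Nat.pow_le_pow_left (hle2 χ) 2
  have hbound : ∑ χ : Cfsg.IrrCharacter (USub hF), (if χ ∈ L then 1 else (2 ^ m) ^ 2) = q ^ 2 := by
    rw [sum_ite, sum_const, sum_const, filter_mem_eq_inter, univ_inter,
      show (univ.filter fun χ => χ ∉ L) = Lᶜ by ext; simp, card_compl, hL,
      ← Nat.card_eq_fintype_card, hk, smul_eq_mul, smul_eq_mul, mul_one,
      show 3 * q - 2 - q = 2 * (q - 1) by omega]
    calc q + 2 * (q - 1) * (2 ^ m) ^ 2 = q + (q - 1) * ((2 ^ m) ^ 2 * 2) := by ring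
      _ = q + (q - 1) * q := by rw [hM]
      _ = q ^ 2 := by zify [show 1 ≤ q by omega]; ring
  have hall := (sum_eq_sum_iff_of_le fun χ _ => hpt χ).1 (htot.trans hbound.symm) φ (mem_univ _)
  rw [hd φ]
  split_ifs at hall with h
  · left
    rw [← hd φ]; exact (mem_filter.1 h).2
  · right
    rw [Nat.pow_left_injective two_ne_zero hall]; push_cast; rfl

end Cfsg.Agent.BC86.Suz
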